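import Cfsg.Agent.L43.Vd
import Cfsg.Agent.H9.SLBasic
import Cfsg.Agent.H3.PResidual
import Cfsg.Statements.S3373

set_option autoImplicit false

/-! Project L43: reduction of the hypotheses of the statement to `Hy`. -/

namespace Cfsg.Agent.L43

open Subgroup Module

namespace RedAux

theorem tv3 {i j : Fin 2} (h : i ≠ j) (t : F) : Matrix.SpecialLinearGroup.transvection h t ^ 3 = 1 := by
  rw [pow_three, ← Matrix.SpecialLinearGroup.transvection_add,
    ← Matrix.SpecialLinearGroup.transvection_add, (by decide : ∀ t : F, t + (t + t) = 0) t,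
    Matrix.SpecialLinearGroup.transvection_coeff_zero]

/-- the upper generator -/
def x0 : S2 := ⟨!![1, 1; 0, 1], by decide⟩
/-- the lower generator -/
def y0 : S2 := ⟨!![1, 0; 1, 1], by decide⟩

theorem gen {H : Subgroup S2} (hx : x0 ∈ H) (hy : y0 ∈ H) : H = ⊤ :=
  H9.sl_subgroup_eq_top_of_transvection H fun i j h t => by
    obtain ⟨n, e | e⟩ := (by decide : ∀ (i j : Fin 2) (h : i ≠ j) (t : F), ∃ n : Fin 3,
      Matrix.SpecialLinearGroup.transvection h t = x0 ^ n.1 ∨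
      Matrix.SpecialLinearGroup.transvection h t = y0 ^ n.1) i j h t <;> rw [e]
    exacts [pow_mem hx _, pow_mem hy _]

theorem fix2 : ∀ X : Matrix (Fin 2) (Fin 2) F, X * X * X = 1 → ∀ Y : Matrix (Fin 2) (Fin 2) F,
    Y * Y * Y = 1 → X * Y * (X * Y) = 1 → ∃ v : Fin 2 → F, v ≠ 0 ∧ X.mulVec v = v ∧ Y.mulVec v = v := by
  decide +kernel

variable {V : Type*} [AddCommGroup V] [Module F V] [FiniteDimensional F V]

theorem simple (ρ : Representation F S2 V)
    (min : ∀ B : Submodule F V, (∀ s, ∀ b ∈ B, ρ s b ∈ B) → B = ⊥ ∨ B = ⊤) (nc : ∃ s a, ρ s a ≠ a) :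
    2 ≤ finrank F V ∧ ((∀ a, ρ (-1) a = -a) ∨ 3 ≤ finrank F V) := by
  have fx : ∀ v, ρ x0 v = v → ρ y0 v = v → v = 0 := fun v hx hy => by
    let H : Subgroup S2 :=
      { carrier := {s | ρ s v = v}
        one_mem' := by simp
        mul_mem' := fun {a b} (ha : ρ a v = v) (hb : ρ b v = v) => by
          change ρ (a * b) v = v
          rw [map_mul, End.mul_apply, hb, ha]
        inv_mem' := fun {a} (ha : ρ a v = v) => by
          change ρ a⁻¹ v = v
          conv_lhs => rw [← ha, ρ.inv_self_apply] }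
    have hv : v ∈ ρ.invariants := fun s => (gen (H := H) hx hy).ge (mem_top s)
    obtain ⟨s, a, h⟩ := nc
    rcases min ρ.invariants (fun s b hb => by rwa [hb s]) with e | e
    · rwa [e] at hv
    · exact absurd (e.ge Submodule.mem_top s) h
  have c3 : ∀ s : S2, s * s * s = 1 → ρ s * ρ s * ρ s = 1 := fun s h => by
    rw [← map_mul, ← map_mul, h, map_one]
  have h2 : 2 ≤ finrank F V := by
    by_contra! h
    obtain ⟨v, hv⟩ := finrank_le_one_iff.1 (Nat.lt_succ_iff.1 h)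
    have k : ∀ s : S2, s * s * s = 1 → ρ s v = v := fun s h => by
      obtain ⟨c, hc⟩ := hv (ρ s v)
      have := congrArg (fun T : End F V => T v) (c3 s h)
      simp only [End.mul_apply, ← hc, map_smul, smul_smul, End.one_apply,
        (by decide : ∀ c : F, c * (c * c) = c) c] at this
      rw [← hc, this]
    obtain ⟨s, a, h⟩ := nc
    obtain ⟨c, rfl⟩ := hv a
    simp [fx v (k _ (by decide)) (k _ (by decide))] at h
  refine ⟨h2, ?_⟩
  rcases min (LinearMap.ker (ρ (-1) - 1)) (fun s b hb => by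
    rw [LinearMap.mem_ker, LinearMap.sub_apply, End.one_apply, sub_eq_zero] at hb ⊢
    rw [← End.mul_apply, ← map_mul, neg_one_mul, ← mul_neg_one, map_mul, End.mul_apply, hb])
    with e | e
  · refine .inl fun a => eq_neg_of_add_eq_zero_left (LinearMap.ker_eq_bot'.1 e _ ?_)
    rw [LinearMap.sub_apply, map_add, ← End.mul_apply, ← map_mul, neg_mul_neg, one_mul, map_one,
      End.one_apply, End.one_apply, add_comm, sub_self]
  refine .inr (h2.eq_or_lt.resolve_left fun h => ?_)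
  let b := finBasisOfFinrankEq F V h.symm
  let φ := LinearMap.toMatrixAlgEquiv b
  have k : ∀ s : S2, s * s * s = 1 → φ (ρ s) * φ (ρ s) * φ (ρ s) = 1 := fun s h => by
    rw [← map_mul, ← map_mul, c3 s h, map_one]
  obtain ⟨v, v0, v1, v2⟩ := fix2 _ (k x0 (by decide)) _ (k y0 (by decide)) (by
    rw [← map_mul, ← map_mul, ← map_mul, ← map_mul, show x0 * y0 * (x0 * y0) = -1 by decide,
      sub_eq_zero.1 (LinearMap.ker_eq_top.1 e), map_one])
  obtain ⟨v, rfl⟩ := b.equivFun.surjective v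
  have k2 : ∀ s, (φ (ρ s)).mulVec (b.equivFun v) = b.equivFun (ρ s v) := fun s =>
    LinearMap.toMatrix_mulVec_repr b b _ v
  rw [k2, b.equivFun.injective.eq_iff] at v1 v2
  exact v0 (by rw [fx v v1 v2, map_zero])

theorem factor (ρ : Representation F S2 V) {N M : Submodule F V} (h : N ≤ M)
    (hN : ∀ s, N ≤ N.comap (ρ s)) (hM : ∀ s, M ≤ M.comap (ρ s))
    (max : ∀ B, N < B → B < M → ∃ s, ∃ b ∈ B, ρ s b ∉ B) (nc : ∃ s, ∃ a ∈ M, ρ s a - a ∉ N) :
    finrank F N + 2 ≤ finrank F M ∧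
      ((∀ a ∈ M, ρ (-1) a + a ∈ N) ∨ finrank F N + 3 ≤ finrank F M) := by
  have e := (N.comap M.subtype).finrank_quotient_add_finrank
  rw [(Submodule.comapSubtypeEquivOfLe h).finrank_eq] at e
  obtain ⟨h1, h2⟩ := simple ((ρ.subrepresentation M hM).quotient (N.comap M.subtype)
    fun s a ha => hN s ha) (fun B hB => by
      have k : ∀ a : M, a.1 ∈ (B.comap (N.comap M.subtype).mkQ).map M.subtype ↔
          Submodule.Quotient.mk a ∈ B := fun a =>
        ⟨fun ⟨b, hb, e⟩ => (show b = a from Subtype.ext e) ▸ hb, fun ha => ⟨a, ha, rfl⟩⟩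
      by_contra! hc
      obtain ⟨s, _, ⟨b, hb, rfl⟩, hs⟩ := max ((B.comap (N.comap M.subtype).mkQ).map M.subtype)
        (lt_of_le_of_ne (fun a ha => (k ⟨a, h ha⟩).2 (by
          rw [(Submodule.Quotient.mk_eq_zero (N.comap M.subtype) (x := ⟨a, h ha⟩)).2 ha]
          exact zero_mem _)) fun e => hc.1
            ((Submodule.eq_bot_iff _).2 fun b hb => by
              obtain ⟨a, rfl⟩ := Submodule.Quotient.mk_surjective _ b
              exact (Submodule.Quotient.mk_eq_zero _).2 (e.ge ((k a).2 hb))))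
        (lt_of_le_of_ne (Submodule.map_subtype_le _ _) fun e => hc.2
          (Submodule.eq_top_iff'.2 fun b => by
            obtain ⟨a, rfl⟩ := Submodule.Quotient.mk_surjective _ b
            exact (k a).1 (e.ge a.2)))
      exact hs ((k ⟨_, hM s b.2⟩).2 (hB s _ hb))) (by
      obtain ⟨s, a, ha, hs⟩ := nc
      exact ⟨s, Submodule.Quotient.mk ⟨a, ha⟩, fun e => hs
        ((Submodule.Quotient.eq (N.comap M.subtype) (x := ⟨_, hM s ha⟩) (y := ⟨a, ha⟩)).1 e)⟩)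
  refine ⟨by omega, h2.imp (fun k a ha => ?_) fun k => by omega⟩
  refine (Submodule.Quotient.mk_eq_zero (N.comap M.subtype)
    (x := (⟨_, hM (-1) ha⟩ : M) + ⟨a, ha⟩)).1 ?_
  rw [Submodule.Quotient.mk_add]
  exact add_eq_zero_iff_eq_neg.2 (k (Submodule.Quotient.mk ⟨a, ha⟩))

theorem lin (ρ : Representation F S2 V) (h4 : finrank F V = 4) {r : ℕ}
    (W : Fin (r + 1) → Submodule F V) (mono : Monotone W) (inv : ∀ i s, W i ≤ (W i).comap (ρ s))
    (max : ∀ (i : Fin r) B, W i.castSucc < B → B < W i.succ → ∃ s, ∃ b ∈ B, ρ s b ∉ B)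
    {i j : Fin r} (hij : i < j) (hi : ∃ s, ∃ a ∈ W i.succ, ρ s a - a ∉ W i.castSucc)
    (hj : ∃ s, ∃ a ∈ W j.succ, ρ s a - a ∉ W j.castSucc) (v : V) : ρ (-1) v + v = 0 := by
  obtain ⟨a1, a2⟩ := factor ρ (mono Fin.castSucc_lt_succ.le) (inv _) (inv _) (max i) hi
  obtain ⟨b1, b2⟩ := factor ρ (mono Fin.castSucc_lt_succ.le) (inv _) (inv _) (max j) hj
  have h1 := mono (Fin.succ_le_castSucc_iff.2 hij)
  have h2 := Submodule.finrank_mono h1
  have h3 := (W j.succ).finrank_le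
  have h5 := (a2.resolve_right (by omega)) _
    ((Submodule.eq_of_le_of_finrank_eq h1 (by omega)).ge ((b2.resolve_right (by omega)) v
      ((Submodule.eq_top_of_finrank_eq (by omega)).ge Submodule.mem_top)))
  rw [Submodule.finrank_eq_zero.1 (show finrank F (W i.castSucc) = 0 by omega), Submodule.mem_bot,
    map_add, ← End.mul_apply, ← map_mul, neg_mul_neg, one_mul, map_one, End.one_apply,
    add_comm v] at h5
  exact eq_zero_of_neg (eq_neg_of_add_eq_zero_left h5)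

universe u

theorem exists_rep {G : Type u} [Group G] [Finite G] {z : G} {C Q : Subgroup G} {π : C →* S2}
    (memC : ∀ g, g ∈ C ↔ g * z = z * g) (oz : orderOf z = 3) (zQ : z ∈ Q) (QC : Q ≤ C)
    (exp : ∀ a ∈ Q, a ^ 3 = 1) (card : Nat.card Q = 243)
    (comm : ∀ a ∈ Q, ∀ b ∈ Q, a * b * a⁻¹ * b⁻¹ ∈ zpowers z) (sur : Function.Surjective π)
    (ker : ∀ c, π c = 1 ↔ c.1 ∈ Q) : ∃ (V : Type u) (_ : AddCommGroup V) (_ : Module F V)
      (_ : FiniteDimensional F V) (p : Q →* Multiplicative V) (ρ : Representation F S2 V),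
      finrank F V = 4 ∧ Function.Surjective p ∧ (∀ a, p a = 1 ↔ a.1 ∈ zpowers z) ∧
      ∀ (c : C) (a b : Q), b.1 = c.1 * a.1 * c.1⁻¹ → ρ (π c) (p a).toAdd = (p b).toAdd := by
  have : Fact (Nat.Prime 3) := ⟨Nat.prime_three⟩
  have mz : ∀ a : Q, a ∈ zpowers (⟨z, zQ⟩ : Q) ↔ a.1 ∈ zpowers z := fun a => by
    simp only [mem_zpowers_iff, Subtype.ext_iff, coe_zpow]
  obtain ⟨V, _, _, D, -, h2⟩ := H3.exists_esData (p := 3) (⟨z, zQ⟩ : Q)
    (mem_center_iff.2 fun a => Subtype.ext ((memC _).1 (QC a.2))) (by rw [orderOf_mk, oz])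
    (by rw [commutator_def, commutator_le]; exact fun a _ b _ => (mz _).2 (comm a a.2 b b.2))
    fun a => (mz _).2 (by rw [coe_pow, exp a a.2]; exact one_mem _)
  have := D.finite_V
  have key : ∀ c : C, ∀ a ∈ Q, c.1 * a * c.1⁻¹ ∈ Q := fun c a ha =>
    (ker (c * ⟨a, QC ha⟩ * c⁻¹)).1 (by
      rw [map_mul, map_mul, (ker ⟨a, QC ha⟩).2 ha, map_inv, mul_one, mul_inv_cancel])
  have ex : ∀ c : C, ∃ R : End F V, ∀ a : Q, R (D.π a) = D.π ⟨_, key c a a.2⟩ := fun c => by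
    let f : Q →* Multiplicative V := D.πHom.comp (MonoidHom.mk' (fun a => ⟨_, key c a a.2⟩)
      fun a b => Subtype.ext (by simp [mul_assoc]))
    let f' := D.πHom.liftOfRightInverse _ (Function.rightInverse_surjInv D.πHom_surjective)
      ⟨f, fun a ha => by
        obtain ⟨n, hn⟩ := mem_zpowers_iff.1 ((mz a).1 ((h2 a).1 ha))
        exact (h2 _).2 ((mz _).2 (by
          change c.1 * a * c.1⁻¹ ∈ _
          rw [← hn, ← conj_zpow, (memC _).1 c.2, mul_inv_cancel_right]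
          exact zpow_mem (mem_zpowers z) n))⟩
    let f'' : V →+ V := MonoidHom.toAdditive f'
    exact ⟨f''.toZModLinearMap 3, fun a =>
      congrArg Multiplicative.toAdd (D.πHom.liftOfRightInverse_comp_apply _ _ _ a)⟩
  choose R hR using ex
  have ext : ∀ {S T : End F V}, (∀ a, S (D.π a) = T (D.π a)) → S = T := fun h =>
    LinearMap.ext fun v => by obtain ⟨a, rfl⟩ := D.π_surj v; exact h a
  have R1 : ∀ c c', R (c * c') = R c * R c' := fun c c' => ext fun a => by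
    rw [End.mul_apply, hR, hR, hR]
    exact congrArg D.π (Subtype.ext (by simp [mul_assoc]))
  have R2 : ∀ c, π c = 1 → R c = 1 := fun c hc => ext fun a => by
    have hz := comm _ ((ker c).1 hc) _ a.2
    have := D.π_mul ⟨_, zpowers_le.2 zQ hz⟩ a
    rw [(h2 ⟨_, zpowers_le.2 zQ hz⟩).2 ((mz _).2 hz), zero_add] at this
    rw [hR, End.one_apply, ← this]
    exact congrArg D.π (Subtype.ext (by simp))
  have R3 : ∀ c c', π c = π c' → R c = R c' := fun c c' h => by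
    rw [← mul_inv_cancel_left c' c, R1, R2 (c'⁻¹ * c) (by rw [map_mul, map_inv, h, inv_mul_cancel]),
      mul_one]
  choose l hl using sur
  refine ⟨V, _, _, inferInstance, D.πHom, ⟨⟨fun s => R (l s), R2 _ (hl 1)⟩, fun s t => by
    rw [← R1]; exact R3 _ _ (by rw [map_mul, hl, hl, hl])⟩, ?_, D.πHom_surjective,
    fun a => (h2 a).trans (mz a), fun c a b e => ?_⟩
  · have e := D.card_eq
    rw [card, Module.natCard_eq_pow_finrank (K := F), Nat.card_zmod] at e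
    exact Nat.pow_right_injective (by decide : 2 ≤ 3) (show 3 ^ _ = 3 ^ 4 by omega)
  · change R (l (π c)) (D.π a) = D.π b
    rw [R3 _ c (hl _), hR]
    exact congrArg D.π (Subtype.ext e.symm)

end RedAux

open RedAux

/-- notes/L43.md, section Red -/
theorem red {G : Type*} [Group G] [Finite G]
    (S : Sylow 3 G) (Z : Subgroup G) (hZ : Z = (S : Subgroup G) ⊓ Subgroup.centralizer ((S : Subgroup G) : Set G))
    (C : Subgroup G) (hCZ : C = Subgroup.centralizer (Z : Set G))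
    (Q : Subgroup G) (hQ : Q = (Cfsg.pCore 3 C).map C.subtype)
    (hQex : Cfsg.IsExtraspecial 3 Q) (hQcard : Nat.card Q = 3 ^ 5) (hQexp : ∀ a ∈ Q, a ^ 3 = 1)
    (hCQ : Subgroup.centralizer (Q : Set G) ≤ Q)
    (hZQ : ∃ x : G, Z.map (MulAut.conj x).toMonoidHom ≤ Q ∧ Z.map (MulAut.conj x).toMonoidHom ≠ Z)
    (K : Subgroup G) (hK : K = ((Cfsg.pResidual 2 (C ⧸ Cfsg.pCore 3 C)).comap (QuotientGroup.mk' (Cfsg.pCore 3 C))).map C.subtype)
    (r : ℕ) (A : Fin (r + 1) → Subgroup G) (hA0 : A 0 = Z) (hAr : A (Fin.last r) = Q)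
    (hmono : ∀ i : Fin r, A i.castSucc < A i.succ)
    (hinv : ∀ i : Fin (r + 1), ∀ k ∈ K, ∀ a ∈ A i, k * a * k⁻¹ ∈ A i)
    (hmax : ∀ i : Fin r, ∀ B : Subgroup G, A i.castSucc < B → B < A i.succ → ∃ k ∈ K, ∃ b ∈ B, k * b * k⁻¹ ∉ B)
    (e : C ⧸ Cfsg.pCore 3 C ≃* Matrix.SpecialLinearGroup (Fin 2) (ZMod 3))
    (htwo : ∃ i j : Fin r, i ≠ j ∧ (∃ k ∈ K, ∃ a ∈ A i.succ, k * a * k⁻¹ * a⁻¹ ∉ A i.castSucc) ∧ (∃ k ∈ K, ∃ a ∈ A j.succ, k * a * k⁻¹ * a⁻¹ ∉ A j.castSucc) ∧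
      ∀ l : Fin r, (∃ k ∈ K, ∃ a ∈ A l.succ, k * a * k⁻¹ * a⁻¹ ∉ A l.castSucc) → l = i ∨ l = j) :
    ∃ (z : G) (π : C →* S2), Hy z C Q π ∧ ∃ g : G, g * z * g⁻¹ ∈ Q ∧ g * z * g⁻¹ ∉ zpowers z := by
  have _ := hZ
  have mono : Monotone A := (Fin.strictMono_iff_lt_succ.2 hmono).monotone
  have ZA : ∀ i, Z ≤ A i := fun i => hA0 ▸ mono (Fin.zero_le i)
  have AQ : ∀ i, A i ≤ Q := fun i => hAr ▸ mono (Fin.le_last i)
  have ZQ : Z ≤ Q := (ZA 0).trans (AQ 0)
  have QC : Q ≤ C := hQ ▸ map_subtype_le _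
  obtain ⟨x, x1, x2⟩ := hZQ
  obtain ⟨⟨z, zZ⟩, z1⟩ := ne_bot_iff_exists_ne_one.1 fun h : Z = ⊥ => x2 (by rw [h, Subgroup.map_bot])
  have : Fact (Nat.Prime 3) := ⟨Nat.prime_three⟩
  have oz : orderOf z = 3 := orderOf_eq_prime (hQexp z (ZQ zZ)) fun h => z1 (Subtype.ext h)
  have Zc : Z.subgroupOf Q ≤ center Q := fun a ha =>
    mem_center_iff.2 fun b => Subtype.ext ((hCZ ▸ QC b.2 : b.1 ∈ centralizer (Z : Set G)) _ ha).symm
  have cz : (zpowers z).subgroupOf Q = center Q :=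
    eq_of_le_of_card_ge ((comap_mono (zpowers_le.2 zZ)).trans Zc) (by
      rw [hQex.2, Nat.card_congr (subgroupOfEquivOfLe (zpowers_le.2 (ZQ zZ))).toEquiv,
        Nat.card_zpowers, oz])
  obtain rfl : zpowers z = Z := le_antisymm (zpowers_le.2 zZ) fun a ha => cz.ge (Zc (x := ⟨a, ZQ ha⟩) ha)
  have memC : ∀ g, g ∈ C ↔ g * z = z * g := fun g => by
    rw [hCZ, zpowers_eq_closure, centralizer_closure, mem_centralizer_singleton_iff]
  have comm : ∀ a ∈ Q, ∀ b ∈ Q, a * b * a⁻¹ * b⁻¹ ∈ zpowers z := fun a ha b hb =>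
    cz.ge (hQex.1.2.2.le (commutator_mem_commutator (mem_top (⟨a, ha⟩ : Q)) (mem_top ⟨b, hb⟩)))
  let π : C →* S2 := e.toMonoidHom.comp (QuotientGroup.mk' _)
  have sur : Function.Surjective π := e.surjective.comp (QuotientGroup.mk'_surjective _)
  have ker : ∀ c, π c = 1 ↔ c.1 ∈ Q := fun c => by
    rw [hQ, ← mem_subgroupOf, subgroupOf, comap_map_eq_self_of_injective C.subtype_injective,
      ← QuotientGroup.eq_one_iff]
    exact map_eq_one_iff _ e.injective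
  obtain rfl : K = C := by
    rw [hK, ← H3.map_pResidual_mulEquiv e.symm, H9.sl_subgroup_eq_top_of_transvection
      (pResidual 2 _) fun i j h t => H3.mem_pResidual_of_coprime
        (Nat.Coprime.coprime_dvd_left (orderOf_dvd_of_pow_eq_one (tv3 h t)) (by decide)),
      map_top_of_surjective _ e.symm.surjective, comap_top, ← MonoidHom.range_eq_map, range_subtype]
  refine ⟨z, π, ⟨memC, oz, ZQ zZ, QC, hQexp, hQcard, comm, fun g hg => ?_, sur, ker,
    fun c hc a ha => ?_⟩, x, x1 ⟨z, zZ, rfl⟩, fun h => x2 ?_⟩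
  · exact cz.ge (x := ⟨g, hCQ fun a ha => (hg a ha).symm⟩)
      (mem_center_iff.2 fun a => Subtype.ext (hg a a.2).symm)
  swap
  · rw [MonoidHom.map_zpowers]
    exact eq_of_le_of_card_ge (zpowers_le.2 h) (by
      rw [Nat.card_zpowers, Nat.card_zpowers]
      exact (orderOf_injective _ (MulAut.conj x).injective z).ge)
  obtain ⟨V, _, _, _, p, ρ, h4, p1, p2, p3⟩ :=
    exists_rep memC oz (ZQ zZ) QC hQexp hQcard comm sur ker
  have key : ∀ c : K, ∀ a : Q, c.1 * a * c.1⁻¹ ∈ Q := fun c a => hAr.le (hinv _ c c.2 a (hAr.ge a.2))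
  let W : Subgroup G → Submodule F V := fun B =>
    AddSubgroup.toZModSubmodule 3 (Subgroup.toAddSubgroup' ((B.subgroupOf Q).map p))
  have hW : ∀ i (a : Q), (p a).toAdd ∈ W (A i) ↔ a.1 ∈ A i := fun i a =>
    SetLike.ext_iff.1 (comap_map_eq_self (f := p) (H := (A i).subgroupOf Q)
      fun b hb => ZA i ((p2 b).1 hb)) a
  have sv : ∀ v : V, ∃ a, (p a).toAdd = v := p1
  have nc : ∀ i : Fin r, (∃ k ∈ K, ∃ a ∈ A i.succ, k * a * k⁻¹ * a⁻¹ ∉ A i.castSucc) →
      ∃ s, ∃ a ∈ W (A i.succ), ρ s a - a ∉ W (A i.castSucc) := fun i ⟨k, hk, a, ha, h⟩ =>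
    ⟨π ⟨k, hk⟩, _, (hW _ ⟨a, AQ _ ha⟩).2 ha, fun c => h ((hW _ (⟨_, key ⟨k, hk⟩ ⟨a, AQ _ ha⟩⟩ *
      ⟨a, AQ _ ha⟩⁻¹)).1 (by
        rwa [map_mul, map_inv, toAdd_mul, toAdd_inv, ← sub_eq_add_neg, ← p3 ⟨k, hk⟩ _ _ rfl]))⟩
  have L := fun i j hij hi hj => lin ρ h4 (fun i => W (A i)) (fun i j h v hv => by
      obtain ⟨a, rfl⟩ := sv v
      exact (hW _ a).2 (mono h ((hW _ a).1 hv))) (fun i s v hv => by
      obtain ⟨a, rfl⟩ := sv v
      obtain ⟨c, rfl⟩ := sur s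
      rw [Submodule.mem_comap, p3 c a ⟨_, key c a⟩ rfl, hW]
      exact hinv i c c.2 a ((hW _ a).1 hv)) (fun i B h1 h2 => by
      let B' := ((AddSubgroup.toSubgroup B.toAddSubgroup).comap p).map Q.subtype
      have hB : ∀ a : Q, a.1 ∈ B' ↔ (p a).toAdd ∈ B := fun a =>
        ⟨fun ⟨b, hb, e⟩ => (show b = a from Subtype.ext e) ▸ hb, fun ha => ⟨a, ha, rfl⟩⟩
      obtain ⟨k, hk, _, ⟨b, hb, rfl⟩, h⟩ := hmax i B' (lt_of_le_of_ne
        (fun a ha => (hB ⟨a, AQ _ ha⟩).2 (h1.le ((hW _ _).2 ha))) fun e => h1.not_ge fun v hv => by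
          obtain ⟨a, rfl⟩ := sv v
          exact (hW _ a).2 (e.ge ((hB a).2 hv)))
        (lt_of_le_of_ne (by rintro _ ⟨a, ha, rfl⟩; exact (hW _ a).1 (h2.le ha))
          fun e => h2.not_ge fun v hv => by
            obtain ⟨a, rfl⟩ := sv v
            exact (hB a).1 (e.ge ((hW _ a).1 hv)))
      exact ⟨π ⟨k, hk⟩, _, hb, fun c => h ((hB ⟨_, key ⟨k, hk⟩ b⟩).2 (by
        rwa [← p3 ⟨k, hk⟩ b _ rfl]))⟩) (i := i) (j := j) hij (nc i hi) (nc j hj) (p ⟨a, ha⟩).toAdd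
  obtain ⟨i, j, hij, hi, hj, -⟩ := htwo
  refine (p2 (⟨_, key c ⟨a, ha⟩⟩ * ⟨a, ha⟩)).1 ?_
  rw [← toAdd_eq_zero, map_mul, toAdd_mul, ← p3 c _ _ rfl, hc]
  exact hij.lt_or_gt.elim (L i j · hi hj) (L j i · hj hi)

end Cfsg.Agent.L43
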