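import Cfsg.Agent.L43.ComA
import Cfsg.Agent.L43.Gen

/-! Two transfer lemmas. -/

set_option autoImplicit false

namespace Cfsg.Agent.L43

open Subgroup
open scoped commutatorElement

variable {G : Type*} [Group G] [Finite G]

theorem a0_core (h : pPrimeCore 3 G = ⊥) (Z : Subgroup G) [Z.Normal] (hZ : Z ≤ center G) (h3 : IsPGroup 3 Z) :
    pPrimeCore 3 (G ⧸ Z) = ⊥ := by
  have : Fact (Nat.Prime 3) := ⟨Nat.prime_three⟩
  have hidx : Z.relIndex ((pPrimeCore 3 (G ⧸ Z)).comap (QuotientGroup.mk' Z)) =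
      Nat.card (pPrimeCore 3 (G ⧸ Z)) := by
    conv_lhs => arg 1; rw [← QuotientGroup.ker_mk' Z]
    rw [relIndex_ker, map_comap_eq_self_of_surjective (QuotientGroup.mk'_surjective Z)]
  obtain ⟨k, hk⟩ := IsPGroup.iff_card.mp h3
  obtain ⟨L, hL, -, hLc, -⟩ := H22.exists_normal_complement_of_central Z
    ((pPrimeCore 3 (G ⧸ Z)).comap (QuotientGroup.mk' Z))
    ((QuotientGroup.ker_mk' Z).ge.trans (ker_le_comap _ _))
    (fun g _ z hz => (mem_center_iff.mp (hZ hz) g).symm) (by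
      rw [hidx, hk]
      exact Nat.Coprime.pow_left _ H22.coprime_card_pPrimeCore.symm)
  have hL0 := H22.le_pPrimeCore (p := 3) hL (by rw [hLc, hidx]; exact H22.coprime_card_pPrimeCore)
  rw [h, le_bot_iff] at hL0
  rw [hL0, card_bot, hidx] at hLc
  exact card_eq_one.mp hLc.symm

theorem a0_abs (hO : pPrimeCore 3 G = ⊥) {H R Z : Subgroup G} [H.Normal] (hZ : Z ≤ center G) (ZR : Z ≤ R)
    (RH : R ≤ H) (h3 : IsPGroup 3 R) (hc : ∀ x ∈ R, ∀ y ∈ R, (x * y)⁻¹ * (y * x) ∈ Z)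
    (hnc : ∀ x ∈ R, ∃ y ∈ R, ∀ i : ℕ, (x ^ i)⁻¹ * y ∉ Z)
    (syl : ∀ g ∈ H, g ∈ normalizer (R : Set G) → ∀ k, g ^ 3 ^ k = 1 → g ∈ R)
    (sgn : ∀ g ∈ H, g ∈ normalizer (R : Set G) →
      (∀ y ∈ R, (g * y * g⁻¹)⁻¹ * y ∈ Z) ∨ ∀ y ∈ R, (g * y * g⁻¹)⁻¹ * y⁻¹ ∈ Z) : H ≤ normalizer (R : Set G) := by
  have : Fact (Nat.Prime 3) := ⟨Nat.prime_three⟩
  have : Z.Normal := ⟨fun z hz g => by rwa [mem_center_iff.1 (hZ hz) g, mul_inv_cancel_right]⟩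
  let π := QuotientGroup.mk' Z
  have eq : ∀ {a b}, π a = π b ↔ a⁻¹ * b ∈ Z := QuotientGroup.eq
  have mem : ∀ {X : Subgroup G}, Z ≤ X → ∀ {a}, π a ∈ X.map π ↔ a ∈ X := fun hX a => by
    rw [← mem_comap, comap_map_eq_self ((QuotientGroup.ker_mk' Z).le.trans hX)]
  have nm : ∀ {g}, π g ∈ normalizer ((R.map π : Subgroup _) : Set (G ⧸ Z)) → g ∈ normalizer (R : Set G) :=
    fun {g} hg => mem_normalizer_fintype fun y hy => (mem ZR).1 (by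
      rw [map_mul, map_mul, map_inv]
      exact (mem_normalizer_iff.1 hg _).1 ⟨y, hy, rfl⟩)
  have : (H.map π).Normal := Normal.map inferInstance π (QuotientGroup.mk'_surjective Z)
  have hD : R.map π ≤ H.map π := map_mono RH
  obtain ⟨S, hS⟩ := OR.exists_sylow_of_norm hD (h3.map π) (by
    rintro _ ⟨g, hg, rfl⟩ hn k e
    rw [← map_pow, QuotientGroup.mk'_apply, QuotientGroup.eq_one_iff] at e
    obtain ⟨j, e'⟩ := h3 ⟨_, ZR e⟩
    exact ⟨g, syl g hg (nm hn) (k + j) (by rw [pow_add, pow_mul]; exact congrArg Subtype.val e'), rfl⟩)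
  have ms : ∀ u : H.map π, u ∈ (S : Subgroup (H.map π)) ↔ (u : G ⧸ Z) ∈ R.map π := fun u => by rw [hS]; rfl
  have nm' : ∀ n : H.map π, n ∈ normalizer ((S : Subgroup (H.map π)) : Set (H.map π)) →
      (n : G ⧸ Z) ∈ normalizer ((R.map π : Subgroup _) : Set (G ⧸ Z)) := fun n hn =>
    mem_normalizer_fintype fun y hy => (ms _).1 ((mem_normalizer_iff.1 hn ⟨y, hD hy⟩).1 ((ms _).2 hy))
  intro g hg
  obtain ⟨k, hk, n, hn, e⟩ := exists_mul_norm (by decide) S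
    ⟨⟨fun a b => by
      obtain ⟨x, hx, ex⟩ := (ms _).1 a.2
      obtain ⟨y, hy, ey⟩ := (ms _).1 b.2
      refine Subtype.ext (Subtype.ext ?_)
      simp only [coe_mul, ← ex, ← ey, ← map_mul]
      exact eq.2 (hc x hx y hy)⟩⟩
    (fun e => by
      obtain ⟨a, ha⟩ := e.exists_monoid_generator
      obtain ⟨x, hx, ex⟩ := (ms _).1 a.2
      obtain ⟨y, hy, k⟩ := hnc x hx
      obtain ⟨i, hi⟩ := ha ⟨⟨π y, y, RH hy, rfl⟩, (ms _).2 ⟨y, hy, rfl⟩⟩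
      exact k i (eq.1 (by rw [map_pow, ex]; exact congrArg (fun u : S => ((u : H.map π) : G ⧸ Z)) hi)))
    (fun n hn => by
      have hn' := nm' n hn
      obtain ⟨_, g, hg, rfl⟩ := n
      refine (sgn g hg (nm hn')).imp (fun e x hx => ?_) fun e x hx => ?_
      all_goals
        obtain ⟨y, hy, ey⟩ := (ms _).1 hx
        refine Subtype.ext ?_
        simp only [coe_mul, coe_inv, ← ey, ← map_mul, ← map_inv]
        exact eq.2 (e y hy)) ⟨π g, g, hg, rfl⟩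
  rw [H22.pPrimeCore_of_normal, a0_core hO Z hZ (h3.to_le ZR), bot_subgroupOf, mem_bot] at hk
  rw [hk, one_mul] at e
  exact nm (nm' _ (e ▸ hn))

theorem a0_amb {K H R Z : Subgroup G}
    (hsig : ∀ Y : Subgroup G, (Nat.card Y).Coprime 3 → K ≤ normalizer (Y : Set G) → Y = ⊥)
    (HK : H ≤ K) (nH : K ≤ normalizer (H : Set G)) (hZ : ∀ z ∈ Z, ∀ g ∈ K, g * z = z * g) (ZR : Z ≤ R)
    (RH : R ≤ H) (h3 : IsPGroup 3 R) (hc : ∀ x ∈ R, ∀ y ∈ R, (x * y)⁻¹ * (y * x) ∈ Z)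
    (hnc : ∀ x ∈ R, ∃ y ∈ R, ∀ i : ℕ, (x ^ i)⁻¹ * y ∉ Z)
    (syl : ∀ g ∈ H, g ∈ normalizer (R : Set G) → ∀ k, g ^ 3 ^ k = 1 → g ∈ R)
    (sgn : ∀ g ∈ H, g ∈ normalizer (R : Set G) →
      (∀ y ∈ R, (g * y * g⁻¹)⁻¹ * y ∈ Z) ∨ ∀ y ∈ R, (g * y * g⁻¹)⁻¹ * y⁻¹ ∈ Z) : H ≤ normalizer (R : Set G) := by
  have nm : ∀ n : K, n ∈ normalizer ((R.subgroupOf K : Subgroup K) : Set K) → (n : G) ∈ normalizer (R : Set G) :=
    fun n hn => mem_normalizer_fintype fun y hy => (mem_normalizer_iff.1 hn ⟨y, HK (RH hy)⟩).1 hy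
  have : (H.subgroupOf K).Normal := (normal_subgroupOf_iff_le_normalizer HK).2 nH
  have hO := hsig _ (H22.coprime_card_map K.subtype H22.coprime_card_pPrimeCore) (OR.mem_normalizer_map _)
  rw [map_eq_bot_iff_of_injective _ K.subtype_injective] at hO
  exact fun g hg => nm ⟨g, HK hg⟩ (a0_abs hO (H := H.subgroupOf K) (R := R.subgroupOf K) (Z := Z.subgroupOf K)
    (fun z hz => mem_center_iff.2 fun g => Subtype.ext (hZ z hz g g.2)) (fun _ h => ZR h) (fun _ h => RH h)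
    h3.comap_subtype (fun x hx y hy => hc x hx y hy)
    (fun x hx => let ⟨y, hy, k⟩ := hnc x hx; ⟨⟨y, HK (RH hy)⟩, hy, k⟩)
    (fun g hg hn k e => syl g hg (nm g hn) k (congrArg Subtype.val e))
    (fun g hg hn => (sgn g hg (nm g hn)).imp (fun e y hy => e y hy) fun e y hy => e y hy) hg)

theorem a0_res {E T L : Subgroup G} (hTE : T ≤ E) (hT : IsPGroup 3 T)
    (hc : ∀ x ∈ T, ∀ y ∈ T, ∀ w ∈ T, ⁅x, y⁆ * w = w * ⁅x, y⁆)
    (h : ∀ g ∈ E, g ∈ normalizer (T : Set G) → ∀ k, g ^ 3 ^ k = 1 → g ∈ T)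
    (hL : ∀ g ∈ E, g ∈ normalizer (T : Set G) → (orderOf g).Coprime 3 → g ∈ L) :
    (∀ g ∈ pResidualOf 3 E, g ∈ normalizer (T : Set G) → g ∈ L) ∧
      ∀ g ∈ E, ∃ u ∈ T, ∃ w ∈ pResidualOf 3 E, g = u * w := by
  have : Fact (Nat.Prime 3) := ⟨Nat.prime_three⟩
  obtain ⟨S, hS⟩ := OR.exists_sylow_of_norm hTE hT h
  have h0 := S4226.result S (by
    change ⁅⁅(S : Subgroup E), (S : Subgroup E)⁆, (S : Subgroup E)⁆ = ⊥
    rw [commutator_eq_bot_iff_le_centralizer, commutator_le, hS]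
    exact fun x hx y hy w hw => Subtype.ext (hc x hx y hy w hw).symm)
  refine ⟨?_, fun g hg => ?_⟩
  · rintro _ ⟨g, hg, rfl⟩ hn
    obtain ⟨x, hx, rfl⟩ := h0.ge ⟨hg, mem_normalizer_fintype fun y hy => by
      rw [hS] at hy ⊢
      exact (mem_normalizer_iff.1 hn y).1 hy⟩
    refine (H3.pResidual_le_iff (N := (L.subgroupOf E).subgroupOf _)).2 (fun y hy => ?_) hx
    refine hL y y.1.2 (mem_normalizer_fintype fun a ha => ?_) (by rwa [orderOf_coe, orderOf_coe])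
    exact hS.le ((mem_normalizer_iff.1 y.2 ⟨a, hTE ha⟩).1 (hS.ge ha))
  · obtain ⟨u, hu, w, hw, e⟩ := H3.exists_mul_pResidual S ⟨g, hg⟩
    rw [hS] at hu
    exact ⟨u, hu, w, ⟨w, hw, rfl⟩, congrArg Subtype.val e⟩

end Cfsg.Agent.L43
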