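import Cfsg.Agent.L43.Com
import Cfsg.Agent.L43.A0a

set_option autoImplicit false
set_option synthInstance.maxSize 4096
set_option maxRecDepth 100000

namespace Cfsg.Agent.L43

open Subgroup
open scoped commutatorElement

/-- `C_U(x₂₄)` -/
def T0 : Subgroup P := us (fun a _ _ _ _ _ => a = 0) rfl fun h h' => by rw [h, h', add_zero]
/-- a maximal subgroup of `T0` -/
def R0 : Subgroup P := us (fun a b _ _ _ _ => a = 0 ∧ b = 0) ⟨rfl, rfl⟩ fun h h' => by simp [h, h']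

/-- the root group of `x₂₄` -/
def Z0 : Subgroup P := us (fun a b c d _ f => a = 0 ∧ b = 0 ∧ c = 0 ∧ d = 0 ∧ f = 0) (by simp)
  fun h h' => by simp [h, h']

theorem a0_Z : ∀ e : F, un 0 0 0 0 e 0 = un 0 0 0 0 1 0 ^ e.val := by decide +kernel

theorem un_mem_T0 (b c d e f : F) : un 0 b c d e f ∈ T0 := ⟨_, _, _, _, _, _, rfl, rfl⟩
theorem un_mem_R0 (c d e f : F) : un 0 0 c d e f ∈ R0 := ⟨_, _, _, _, _, _, ⟨rfl, rfl⟩, rfl⟩

theorem t2_un (a b c d e f : F) : t2 * un a b c d e f * t2⁻¹ = un (-a) b (-c) (-d) e (-f) := by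
  rw [mul_inv_eq_iff_eq_mul]
  refine P_ext (Matrix.ext fun i j => ?_)
  rw [P_mul_apply, P_mul_apply]
  fin_cases i <;> fin_cases j <;> simp [un_val, t2, dg]

theorem a0_ent {m : P} (h : m * un 0 0 0 0 1 0 = un 0 0 0 0 1 0 * m) : m.1.1 0 1 = 0 ∧ m.1.1 2 1 = 0 ∧
    m.1.1 3 1 = 0 ∧ m.1.1 3 2 = 0 ∧ m.1.1 1 1 = m.1.1 3 3 ∧ m.1.1 2 2 = 1 ∧ (m.1.1 1 1 = 1 ∨ m.1.1 1 1 = -1) := by
  have e2 := ca_ent h
  have e3 := P_det m
  simp only [zero_mul, mul_zero, one_mul, mul_one, zero_add, add_zero] at e2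
  obtain ⟨⟨-, -, b1⟩, ⟨b2, b3, b4⟩, ⟨-, -, b5⟩, -⟩ := e2
  rw [okL, ← b2, ← b3, ← b4, b5] at e3
  exact ⟨b1, b5, b2.symm, b3.symm, b4, (by decide : ∀ x y : F, x * (y * x) = 1 → y = 1 ∧ (x = 1 ∨ x = -1)) _ _
    (by linear_combination e3)⟩

theorem a0_cp {m : P} (h : m * un 0 0 0 0 1 0 = un 0 0 0 0 1 0 * m) :
    ∃ c d e f, m = un 0 (m.1.1 0 2) c d e f ∨ m = un 0 (m.1.1 0 2) c d e f * t2 := by
  have key : ∀ {m : P}, m * un 0 0 0 0 1 0 = un 0 0 0 0 1 0 * m → m.1.1 1 1 = 1 →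
      ∃ c d e f, m = un 0 (m.1.1 0 2) c d e f := fun h e => by
    obtain ⟨b1, b2, b3, b4, b5, b6, -⟩ := a0_ent h
    exact ⟨_, _, _, _, (eq_un e b6 (b5.symm.trans e) b2 b3 b4).trans (by rw [b1])⟩
  rcases (a0_ent h).2.2.2.2.2.2 with e | e
  · exact (key h e).imp fun _ => .imp fun _ => .imp fun _ => .imp fun _ => .inl
  obtain ⟨c, d, e, f, k⟩ := key (m := m * t2) (by
    rw [mul_assoc, show t2 * un 0 0 0 0 1 0 = un 0 0 0 0 1 0 * t2 by decide +kernel, ← mul_assoc, h, mul_assoc])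
    (by rw [P_mul_apply, e]; simp [t2, dg])
  refine ⟨c, d, e, f, .inr ?_⟩
  rw [show (m * t2).1.1 0 2 = m.1.1 0 2 by rw [P_mul_apply]; simp [t2, dg]] at k
  rw [← k, mul_assoc, show t2 * t2 = 1 by decide +kernel, mul_one]

/-- the entry `13` on `C_P(x₂₄)` -/
def a0χ : centralizer {un 0 0 0 0 1 0} →* Multiplicative F :=
  MonoidHom.mk' (fun m => Multiplicative.ofAdd (m.1.1.1 0 2)) fun m n => by
    obtain ⟨b1, -⟩ := a0_ent (mem_centralizer_singleton_iff.1 m.2)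
    obtain ⟨-, -, -, b4, -, b6, -⟩ := a0_ent (mem_centralizer_singleton_iff.1 n.2)
    rw [← ofAdd_add, coe_mul, P_mul_apply, b1, b4, b6, m.1.2.1]
    congr 1
    ring

theorem a0_gen : ∀ c d e f : F, un 0 0 c d e f = ⁅un 0 0 (-c) (-d) 0 (-f), t2⁆ *
    ⁅un 0 0 0 (e + d * f) 0 0, ⁅un 0 0 0 0 0 (-1), t2⁆⁆ := by
  simp only [commutatorElement_def, mul_assoc _ t2, mul_assoc _ (t2 * _), un_inv, t2_un, un_mul, un_inj]
  decide +kernel

variable {G : Type*} [Group G] [Finite G] {φ : P →* G}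

theorem Md.a0_nm (h : Md φ) (ha : ¬ IsConj (φ z0) (φ (un 0 0 0 0 1 0))) {X : Subgroup P} (h1 : R0 ≤ X)
    (h2 : X ≤ T0) {g : G} (hg : g ∈ normalizer ((X.map φ : Subgroup G) : Set G)) : g ∈ φ.range := by
  have TU : T0 ≤ UU := fun _ ⟨_, _, _, _, _, _, _, e⟩ => e ▸ un_mem_UU ..
  obtain ⟨x, hx, e⟩ := (mem_normalizer_iff.1 hg _).1 ⟨z0, h1 (un_mem_R0 ..), rfl⟩
  obtain ⟨y, hy, e'⟩ := (mem_normalizer_iff.1 (inv_mem hg) _).1 ⟨_, h1 (un_mem_R0 0 1 0 0), rfl⟩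
  obtain ⟨_, b, c, d, e, f, rfl, rfl⟩ := h2 hx
  have k := congrArg (fun u => g * φ u * g⁻¹) (ca_z (TU (h2 hy)) 1)
  simp only [map_mul] at k
  rw [← conj_mul, ← conj_mul, e', inv_inv, show ∀ u : G, g * (g⁻¹ * u * g) * g⁻¹ = u from fun u => by group,
    ← z0, ← e] at k
  have := (un_inj.1 ((un_mul ..).symm.trans ((h.mul_of_comm k).trans (un_mul ..)))).2.2.2.2.1
  exact h.normJ ha ⟨b, c, d, _, by rw [← e, show f = 0 by linear_combination this]⟩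

/-- notes/L43.md, section A0 -/
theorem Md.cen0 (h : Md φ) (ha : ¬ IsConj (φ z0) (φ (un 0 0 0 0 1 0))) {g : G}
    (hg : g * φ (un 0 0 0 0 1 0) = φ (un 0 0 0 0 1 0) * g) : g ∈ φ.range := by
  let K := centralizer {φ (un 0 0 0 0 1 0)}
  have RT : R0 ≤ T0 := fun _ ⟨_, _, _, _, _, _, k, e⟩ => ⟨_, _, _, _, _, _, k.1, e⟩
  have mK : ∀ {m}, φ m ∈ K ↔ m * un 0 0 0 0 1 0 = un 0 0 0 0 1 0 * m := by
    intro m
    rw [mem_centralizer_singleton_iff, ← map_mul, ← map_mul, h.inj.eq_iff]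
  have uK : ∀ b c d e f, φ (un 0 b c d e f) ∈ K := fun b c d e f => mK.2 (by simp [un_mul, add_comm])
  have tK : φ t2 ∈ K := mK.2 (by decide +kernel)
  have TK : T0.map φ ≤ K := by
    rintro _ ⟨_, ⟨_, b, c, d, e, f, rfl, rfl⟩, rfl⟩
    exact uK _ _ _ _ _
  have sq : ∀ b c d e f, φ (un 0 b c d e f * t2) * φ (un 0 b c d e f * t2) = φ (un 0 (b + b) (-(b * f))
      0 (e + e - d * f) 0) := fun b c d e f => by
    rw [← map_mul, show ∀ x : P, x * t2 * (x * t2) = x * (t2 * x * t2⁻¹) * (t2 * t2) from fun x => by group,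
      show t2 * t2 = 1 by decide +kernel, mul_one, t2_un, un_mul]
    congr 2 <;> ring
  obtain ⟨r1, r2⟩ := a0_res (L := (a0χ.ker.map (Subgroup.subtype _)).map φ) TK ((us_p _ _ _).map φ)
    (by
      rintro _ ⟨_, ⟨_, _, _, _, _, _, rfl, rfl⟩, rfl⟩ _ ⟨_, ⟨_, _, _, _, _, _, rfl, rfl⟩, rfl⟩
        _ ⟨_, ⟨_, _, _, _, _, _, rfl, rfl⟩, rfl⟩
      obtain ⟨s, e⟩ := ca_comm ..
      rw [← map_commutatorElement, e, ← map_mul, ← map_mul, un_mul, un_mul]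
      simp [add_comm])
    (fun g hg hn k e => by
      obtain ⟨m, rfl⟩ := h.a0_nm ha RT le_rfl hn
      obtain ⟨_, _, _, _, e' | e'⟩ := a0_cp (mK.1 hg)
      · exact ⟨m, e' ▸ un_mem_T0 .., rfl⟩
      · exact OR.mem_of_sq (by rw [e', sq]; exact ⟨_, un_mem_T0 .., rfl⟩) k e)
    (fun g hg hn e => by
      have : Fact (Nat.Prime 3) := ⟨Nat.prime_three⟩
      obtain ⟨m, rfl⟩ := h.a0_nm ha RT le_rfl hn
      refine ⟨m, ⟨⟨m, mem_centralizer_singleton_iff.2 (mK.1 hg)⟩, H3.pResidual_le_ker (p := 3) a0χ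
        (IsPGroup.of_card (n := 1) (by simp)) (H3.mem_pResidual_of_coprime ?_), rfl⟩, rfl⟩
      rwa [← orderOf_coe, ← orderOf_injective φ h.inj])
  have nH : K ≤ normalizer (pResidualOf 3 K : Set G) := OR.mem_normalizer_map _
  have c1 : ∀ x ∈ K, ∀ y ∈ pResidualOf 3 K, ⁅x, y⁆ ∈ pResidualOf 3 K := fun x hx y hy =>
    mul_mem ((mem_normalizer_iff.1 (nH hx) y).1 hy) (inv_mem hy)
  have tH : φ t2 ∈ pResidualOf 3 K := H3.mem_map_subtype_pResidual_of_coprime tK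
    ((Nat.Coprime.coprime_dvd_left (orderOf_dvd_of_pow_eq_one (n := 2) (by
      rw [← map_pow, show t2 ^ 2 = 1 by decide +kernel, map_one])) (by decide)))
  have hN : ∀ g ∈ pResidualOf 3 K, g ∈ normalizer ((R0.map φ : Subgroup G) : Set G) →
      ∃ c d e f, g = φ (un 0 0 c d e f) ∨ g = φ (un 0 0 c d e f * t2) := fun g hg hn => by
    obtain ⟨m, rfl⟩ := h.a0_nm ha le_rfl RT hn
    have hm := mK.1 (map_subtype_le _ hg)
    obtain ⟨c, d, e, f, k⟩ := a0_cp hm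
    obtain ⟨_, ⟨m', h1, rfl⟩, h2⟩ := r1 _ hg (le_normalizer_map φ ⟨m, by
      have : t2 ∈ normalizer (T0 : Set P) := mem_normalizer_fintype (by
        rintro _ ⟨_, _, _, _, _, _, rfl, rfl⟩
        rw [t2_un, neg_zero]
        exact un_mem_T0 ..)
      rcases k with k | k <;> rw [k]
      exacts [le_normalizer (un_mem_T0 ..), mul_mem (le_normalizer (un_mem_T0 ..)) this], rfl⟩)
    obtain rfl := h.inj h2
    rw [show (Subgroup.subtype _ m').1.1 0 2 = 0 from h1] at k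
    exact ⟨c, d, e, f, k.imp (congrArg φ) (congrArg φ)⟩
  have mZ : ∀ {a b c d e f : F}, φ (un a b c d e f) ∈ Z0.map φ ↔ a = 0 ∧ b = 0 ∧ c = 0 ∧ d = 0 ∧ f = 0 := by
    refine fun {a b c d e f} => ⟨fun k => ?_, fun k => ⟨_, ⟨_, _, _, _, _, _, k, rfl⟩, rfl⟩⟩
    obtain ⟨_, _, _, _, _, _, k, e⟩ := (mem_map_iff_mem h.inj).1 k
    obtain ⟨rfl, rfl, rfl, rfl, rfl, rfl⟩ := un_inj.1 e
    exact k
  have key := a0_amb (K := K) (H := pResidualOf 3 K) (R := R0.map φ) (Z := Z0.map φ)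
    (fun Y hY hn => h.sig1 hY (hn (uK _ _ _ _ _)) (hn (uK _ _ _ _ _))) (map_subtype_le _) nH
    (by
      rintro _ ⟨_, ⟨_, _, _, _, e, _, ⟨rfl, rfl, rfl, rfl, rfl⟩, rfl⟩, rfl⟩ g hg
      rw [a0_Z, map_pow]
      exact (Commute.pow_right (mem_centralizer_singleton_iff.1 hg) _).eq)
    (map_mono fun _ ⟨_, _, _, _, _, _, k, e⟩ => ⟨_, _, _, _, _, _, ⟨k.1, k.2.1⟩, e⟩)
    (by
      rintro _ ⟨_, ⟨_, _, c, d, e, f, ⟨rfl, rfl⟩, rfl⟩, rfl⟩
      rw [a0_gen, map_mul, map_commutatorElement, map_commutatorElement, map_commutatorElement]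
      exact mul_mem (c1 _ (uK _ _ _ _ _) _ tH) (c1 _ (uK _ _ _ _ _) _ (c1 _ (uK _ _ _ _ _) _ tH)))
    ((us_p _ _ _).map φ)
    (by
      rintro _ ⟨_, ⟨_, _, c, d, e, f, ⟨rfl, rfl⟩, rfl⟩, rfl⟩ _ ⟨_, ⟨_, _, c', d', e', f', ⟨rfl, rfl⟩, rfl⟩, rfl⟩
      simp only [← map_mul, ← map_inv, un_mul, un_inv, mZ]
      refine ⟨?_, ?_, ?_, ?_, ?_⟩ <;> ring)
    (by
      rintro _ ⟨_, ⟨_, _, c, d, e, f, ⟨rfl, rfl⟩, rfl⟩, rfl⟩
      have pw : ∀ i : ℕ, ∃ s, un 0 0 c d e f ^ i = un 0 0 (i * c) (i * d) s (i * f) := fun i => by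
        induction i with
        | zero => exact ⟨0, by simp [un_zero]⟩
        | succ i ih => exact ⟨_, by rw [pow_succ, ih.choose_spec, un_mul]; simp [add_mul, un_inj]; rfl⟩
      by_contra k
      push Not at k
      obtain ⟨i, e1⟩ := k _ ⟨_, un_mem_R0 1 0 0 0, rfl⟩
      obtain ⟨j, e2⟩ := k _ ⟨_, un_mem_R0 0 1 0 0, rfl⟩
      rw [← map_pow, (pw _).choose_spec, ← map_inv, ← map_mul, un_inv, un_mul, mZ] at e1 e2
      exact one_ne_zero (α := F) (by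
        linear_combination (j * d) * e1.2.2.1 + e2.2.2.2.1 - (j * c) * e1.2.2.2.1))
    (fun g hg hn k e => by
      obtain ⟨_, _, _, _, rfl | rfl⟩ := hN g hg hn
      · exact ⟨_, un_mem_R0 .., rfl⟩
      · exact OR.mem_of_sq (by rw [sq, add_zero]; exact ⟨_, un_mem_R0 .., rfl⟩) k e)
    (fun g hg hn => by
      obtain ⟨c, d, e, f, k⟩ := hN g hg hn
      refine k.imp ?_ ?_
      all_goals
        rintro rfl _ ⟨_, ⟨_, _, c', d', e', f', ⟨rfl, rfl⟩, rfl⟩, rfl⟩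
      · simp only [← map_mul, ← map_inv, un_mul, un_inv, mZ]
        refine ⟨?_, ?_, ?_, ?_, ?_⟩ <;> ring
      · rw [← map_inv, ← map_mul, ← map_mul, show ∀ x y : P, x * t2 * y * (x * t2)⁻¹ = x * (t2 * y * t2⁻¹) * x⁻¹ from
          fun x y => by group, t2_un]
        simp only [← map_mul, ← map_inv, un_mul, un_inv, mZ]
        refine ⟨?_, ?_, ?_, ?_, ?_⟩ <;> ring)
  obtain ⟨_, ⟨u, -, rfl⟩, w, hw, rfl⟩ := r2 g (mem_centralizer_singleton_iff.2 hg)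
  exact mul_mem ⟨u, rfl⟩ (h.a0_nm ha le_rfl RT (key hw))

end Cfsg.Agent.L43
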