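import Cfsg.Agent.L43.T162a
import Cfsg.Agent.L43.Gen
import Cfsg.Agent.H23.BG12
import Cfsg.Agent.H75.Invol
import Cfsg.Agent.H8.OddCore

set_option autoImplicit false

namespace Cfsg.Agent.L43

open Subgroup

section

open Cfsg.Agent.H49 Cfsg.Agent.H54 Cfsg.Agent.H52 Cfsg.Agent.H76 Equiv.Perm

theorem TA.amb {G : Type*} [Group G] [Finite G] {H : Subgroup G} (σ : H →* Equiv.Perm (Fin 3))
    (hσ : Function.Surjective σ) (hJ : ∀ n, σ n = 1 → (n : G) ^ 3 = 1)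
    (ν : H → ZMod 3) (νm : ∀ a b, σ a = 1 → σ b = 1 → ν (a * b) = ν a + ν b)
    {s : H} (s2 : s * s = 1) (s1 : σ s ≠ 1) (νs : ∀ j, σ j = 1 → ν (s * j * s⁻¹) = ν j)
    (νu : ∃ u j, σ j = 1 ∧ ν (u * j * u⁻¹) ≠ ν j)
    (hc : ∀ y ∈ aker (sign.comp σ), y ≠ 1 → ∀ g, g * y = y * g → g ∈ H)
    (hn : ∀ g, (∀ y ∈ aker (sign.comp σ), g * y * g⁻¹ ∈ aker (sign.comp σ)) → g ∈ H) : H = ⊤ := by
  haveI := Fintype.ofFinite G
  haveI := Fintype.ofFinite H
  haveI : Fact (Nat.Prime 3) := ⟨Nat.prime_three⟩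
  generalize hT : aker (sign.comp σ) = T at hc hn
  have mT : ∀ x : H, (x : G) ∈ T ↔ sign (σ x) = 1 := fun x => by
    rw [← hT, mem_aker]; exact ⟨fun ⟨_, e⟩ => e, fun e => ⟨x.2, e⟩⟩
  have TH : T ≤ H := hT ▸ (normalIn_aker _).1
  have t9 : ∀ x ∈ T, x ^ 3 ^ 2 = 1 := fun x hx => by
    have := hJ (⟨x, TH hx⟩ ^ 3) (by
      rw [map_pow]
      exact (by decide : ∀ g : Equiv.Perm (Fin 3), sign g = 1 → g ^ 3 = 1) _ ((mT ⟨x, TH hx⟩).1 hx))
    rwa [Subgroup.coe_pow, ← pow_mul] at this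
  have pT : IsPGroup 3 T := fun x => ⟨2, Subtype.ext (t9 x x.2)⟩
  have inT : ∀ x ∈ H, x ^ 3 ^ 2 = 1 → x ∈ T := fun x hx e => (mT ⟨x, hx⟩).2 (by
    have := congrArg (sign.comp σ) (show (⟨x, hx⟩ : H) ^ 3 ^ 2 = 1 from Subtype.ext e)
    rw [map_pow, map_one] at this
    exact (by decide : ∀ u : ℤˣ, u ^ 3 ^ 2 = 1 → u = 1) _ this)
  have sT : sign (σ s) = -1 := (by decide : ∀ g : Equiv.Perm (Fin 3), g * g = 1 → g ≠ 1 → sign g = -1) _
    (by rw [← map_mul, s2, map_one]) s1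
  have ss : (s : G) * s = 1 := congrArg Subtype.val s2
  have nab : ¬ ∀ a ∈ T, ∀ b ∈ T, a * b = b * a := fun h => by
    obtain ⟨u, j, hj, n⟩ := νu
    have k : ∀ u j : H, sign (σ u) = 1 → σ j = 1 → u * j * u⁻¹ = j := fun u j hu hj =>
      mul_inv_eq_iff_eq_mul.2 (Subtype.ext (h _ ((mT u).2 hu) _ ((mT j).2 (by rw [hj, map_one]))))
    rcases Int.units_eq_one_or (sign (σ u)) with e | e
    · exact n (by rw [k u j e hj])
    · refine n ?_
      rw [← νs j hj, ← k (u * s⁻¹) (s * j * s⁻¹) (by simp [e, sT]) (by simp [hj])]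
      congr 1
      group
  obtain ⟨⟨c, cT⟩, -, cZ, oc⟩ := H3.exists_mem_center_orderOf_eq pT ⊤ fun e => nab fun a ha b hb => by
    rw [show a = 1 from congrArg Subtype.val (mem_bot.1 (e.le (mem_top ⟨a, ha⟩))), one_mul, mul_one]
  have c1 : c ≠ 1 := fun e => by simp [e] at oc
  have TI : ∀ g, ∀ y ∈ T, y ≠ 1 → g * y * g⁻¹ ∈ T → g ∈ H := fun g y hy y1 hg => by
    have k : ∀ {a b : G}, a ∈ T → g * b * g⁻¹ ∈ T → b ≠ 1 → a * b = b * a → g * a * g⁻¹ ∈ T :=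
      fun {a b} ha hb b1 e => inT _ (hc _ hb (by simpa using b1) _ (by rw [conj_mul, conj_mul, e]))
        (by rw [conj_pow, t9 a ha]; simp)
    have cc : ∀ t ∈ T, t * c = c * t := fun t ht => congrArg Subtype.val (mem_center_iff.1 cZ ⟨t, ht⟩)
    exact hn g fun t ht => k ht (k cT hg y1 (cc y hy).symm) c1 (cc t ht)
  have odd : ∀ x ∈ T, Odd (orderOf x) := fun x hx =>
    Odd.of_dvd_nat (by decide : Odd (3 ^ 2)) (orderOf_dvd_of_pow_eq_one (t9 x hx))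
  have id := Function.surjective_id (α := H)
  obtain ⟨r, hr, r1, rs⟩ := TA.exists_two hσ s2 s1
  obtain ⟨χ, hχ, χ1, χs⟩ := TA.exists_three hσ s2 s1 ν νm νs νu
  have di : ∀ {θ : H → ℂ}, IsDirr ⊤ θ → IsDirr H (infl (MonoidHom.id H) θ) := fun h =>
    h.imp (infl_irr id) fun e => map_neg (infl (MonoidHom.id H)) _ ▸ infl_irr id e
  let ε : Dual H := (Units.map (Int.castRingHom ℂ).toMonoidHom).comp (sign.comp σ)
  have εv : ∀ x : H, linChar H ε x = ((sign (σ x) : ℤ) : ℂ) := fun x => linChar_coe ε x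
  obtain ⟨A, hA, eA⟩ := TA.core s.2 ss (fun x hx xx => by
      rcases Int.units_eq_one_or (sign (σ ⟨x, hx⟩)) with e | e
      · exact .inl (H8.eq_one_of_sq_of_odd (odd x ((mT ⟨x, hx⟩).2 e)) xx)
      · have m : (s : G) * x ∈ T := (mT (s * ⟨x, hx⟩)).2 (by simp [e, sT])
        obtain ⟨k, hk⟩ := H75.exists_pow_conj_of_odd ss xx (odd _ m)
        exact .inr ⟨_, pow_mem (TH m) k, hk.symm⟩)
    (fun g a ha aa hg => by
      have sq : ∀ x ∈ H, x * x ∈ T := fun x hx => (mT (⟨x, hx⟩ * ⟨x, hx⟩)).2 (by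
        rw [map_mul, map_mul, Int.units_mul_self])
      exact TI g _ (sq a ha) aa (by rw [← conj_mul]; exact sq _ hg))
    (dirr_of_irr (linChar_irr ε)) (di hr) (di hχ) (linChar_apply_one ε) (by rw [εv, sT]; simp)
    ((infl_apply _ (one_mem H)).trans r1) ((infl_apply _ s.2).trans rs) ((infl_apply _ (one_mem H)).trans χ1)
    ((infl_apply _ s.2).trans χs)
  have mK : ∀ x : H, (x : G) ∈ cfker ⊤ A ↔ (x : G) ∈ T := fun x => by
    rw [mem_cfker_irr hA.1, hA.2, ← res_apply_of_mem A x.2, eA, εv, mT]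
    rcases Int.units_eq_one_or (sign (σ x)) with e | e <;> rw [e] <;> norm_num
  have nK := (cfker_normal (irr_CF hA.1)).2
  generalize cfker ⊤ A = K at mK nK
  have TK : T ≤ K := fun x hx => (mK ⟨x, TH hx⟩).2 hx
  have KT : ∀ x ∈ K, x ∈ H → x ∈ T := fun x hx xH => (mK ⟨x, xH⟩).1 hx
  obtain ⟨S, hS⟩ := OR.exists_sylow_of_norm TK pT fun g hg gN _ _ =>
    KT g hg (hn g fun y hy => conj_mem_of_norm le_rfl gN hy)
  have mS : ∀ x : K, x ∈ S ↔ (x : G) ∈ T := fun x => by rw [← SetLike.mem_coe, ← Sylow.coe_coe, hS]; rfl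
  have cop := H3.hasNormalPComplement_iff_coprime.1 ((H3.hasNormalPComplement_iff_sylow_controls_fusion S).2
    fun x hx g hg => by
      by_cases x1 : (x : G) = 1
      · exact ⟨1, one_mem _, by simp [show x = 1 from Subtype.ext x1]⟩
      · exact ⟨g, (mS g).2 (KT g g.2 (TI g x ((mS x).1 hx) x1 ((mS _).1 hg))), rfl⟩)
  obtain ⟨D, hD⟩ := H23.exists_elem_two_of_not_cyclic Nat.prime_three (by decide) pT fun e =>
    nab (comm_of_isCyclic e)
  have R : (pResidual 3 K).map K.subtype ≤ T := H46.le_of_forall_element (pT.to_le hD.1) hD.2.1.1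
    (hD.not_cyclic Nat.prime_three) (Nat.prime_three.coprime_iff_not_dvd.1 (H22.coprime_card_map K.subtype cop).symm)
    ((hD.1.trans TK).trans (OR.mem_normalizer_map _)) fun d hd d1 g hg =>
      KT g (map_subtype_le _ hg.1) (hc d (hD.1 hd) d1 g (mem_centralizer_singleton_iff.1 hg.2))
  refine eq_top_iff.2 fun g _ => hn g fun y hy => ?_
  obtain ⟨u, hu, w, hw, e⟩ := H3.exists_mul_pResidual S ⟨_, conj_mem_of_norm nK (mem_top g) (TK hy)⟩
  rw [show g * y * g⁻¹ = u * w from congrArg Subtype.val e]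
  exact mul_mem ((mS u).1 hu) (R ⟨w, hw, rfl⟩)

end

attribute [-instance] ZMod.instField in
/-- notes/L43.md, section T162 -/
theorem t162 {K N : Type*} [Group K] [Finite K] [Group N] (ψ : N →* K) (σ : N →* Equiv.Perm (Fin 3))
    (hσ : Function.Surjective σ) (hk : ∀ n, ψ n = 1 → σ n = 1) (hJ : ∀ n, σ n = 1 → n ^ 3 = 1)
    (ν : N → ZMod 3) (νm : ∀ a b, σ a = 1 → σ b = 1 → ν (a * b) = ν a + ν b) (νk : ∀ n, ψ n = 1 → ν n = 0)
    {s : N} (s2 : s * s = 1) (s1 : σ s ≠ 1) (νs : ∀ j, σ j = 1 → ν (s * j * s⁻¹) = ν j)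
    (νu : ∃ u j, σ j = 1 ∧ ν (u * j * u⁻¹) ≠ ν j)
    (hc : ∀ y, Equiv.Perm.sign (σ y) = 1 → ψ y ≠ 1 → ∀ g, g * ψ y = ψ y * g → g ∈ ψ.range)
    (hn : ∀ g, (∀ y, Equiv.Perm.sign (σ y) = 1 → ∃ y', Equiv.Perm.sign (σ y') = 1 ∧ g * ψ y * g⁻¹ = ψ y') →
      g ∈ ψ.range) : ψ.range = ⊤ := by
  have hs := ψ.rangeRestrict_surjective
  let σ' := ψ.rangeRestrict.liftOfSurjective hs ⟨σ, fun n hn => hk n (congrArg Subtype.val hn)⟩
  have e : ∀ n, σ' (ψ.rangeRestrict n) = σ n := fun n => MonoidHom.liftOfRightInverse_comp_apply ..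
  have eν : ∀ n, σ n = 1 → ν (Function.surjInv hs (ψ.rangeRestrict n)) = ν n := fun n hn => by
    have k : ψ (n⁻¹ * Function.surjInv hs (ψ.rangeRestrict n)) = 1 := by
      rw [map_mul, map_inv, inv_mul_eq_one]
      exact congrArg Subtype.val (Function.surjInv_eq hs (ψ.rangeRestrict n)).symm
    simpa [νk _ k] using νm _ _ hn (hk _ k)
  have mT : ∀ y, y ∈ H76.aker (Equiv.Perm.sign.comp σ') ↔ ∃ n, Equiv.Perm.sign (σ n) = 1 ∧ y = ψ n := fun y => by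
    rw [H76.mem_aker]
    exact ⟨fun ⟨⟨n, hn⟩, k⟩ => ⟨n, by subst hn; rw [← e]; exact k, hn.symm⟩,
      fun ⟨n, k, hn⟩ => ⟨⟨n, hn.symm⟩, by subst hn; rw [← e] at k; exact k⟩⟩
  refine TA.amb σ' (fun x => (hσ x).elim fun n k => ⟨_, (e n).trans k⟩) (fun x hx => ?_)
    (fun x => ν (Function.surjInv hs x)) (fun a b ha hb => ?_) (s := ψ.rangeRestrict s)
    (by rw [← map_mul, s2, map_one]) (by rwa [e]) (fun j hj => ?_) ?_ (fun y hy => ?_) fun g hg => hn g fun y hy => ?_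
  · obtain ⟨n, rfl⟩ := hs x
    rw [MonoidHom.coe_rangeRestrict, ← map_pow, hJ n ((e n).symm.trans hx), map_one]
  · obtain ⟨a, rfl⟩ := hs a
    obtain ⟨b, rfl⟩ := hs b
    rw [e] at ha hb
    rw [← map_mul, eν a ha, eν b hb, eν _ (by rw [map_mul, ha, hb, mul_one]), νm a b ha hb]
  · obtain ⟨j, rfl⟩ := hs j
    rw [e] at hj
    rw [← map_inv, ← map_mul, ← map_mul, eν j hj, eν _ (by simp [hj]), νs j hj]
  · obtain ⟨u, j, hj, n⟩ := νu
    exact ⟨ψ.rangeRestrict u, ψ.rangeRestrict j, (e j).trans hj, by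
      rwa [← map_inv, ← map_mul, ← map_mul, eν j hj, eν _ (by simp [hj])]⟩
  · obtain ⟨n, k, rfl⟩ := (mT y).1 hy
    exact hc n k
  · exact (mT _).1 (hg _ ((mT _).2 ⟨y, hy, rfl⟩))

end Cfsg.Agent.L43
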