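import Cfsg.Agent.L43.Com
import Cfsg.Agent.L43.T162
import Cfsg.Agent.L43.A0

set_option autoImplicit false
set_option synthInstance.maxSize 4096
set_option maxRecDepth 100000

namespace Cfsg.Agent.L43

open Subgroup

/-- affine maps of the field -/
def aff (ε a : F) (h : ε * ε = 1) : Equiv.Perm (Fin 3) :=
  ⟨fun x : F => (ε * (x + a) : F), fun x : F => (ε * x - a : F), fun x : F => by
    show ε * (ε * (x + a)) - a = x
    linear_combination (x + a) * h, fun x : F => by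
    show ε * (ε * x - a + a) = x
    linear_combination x * h⟩

theorem aff_mul : ∀ ε a h ε' a' h', ∃ k, aff (ε * ε') (a' + a * ε') k = aff ε a h * aff ε' a' h' := by
  decide +kernel

theorem aff_sign : ∀ ε a h, Equiv.Perm.sign (aff ε a h) = 1 ↔ ε = 1 := by decide +kernel

theorem aff_one : ∀ ε a h, aff ε a h = 1 ↔ ε = 1 ∧ a = 0 := by decide +kernel

theorem aff_sur : ∀ τ, ∃ a, τ = aff 1 a rfl ∨ τ = aff 1 a rfl * aff (-1) 0 rfl := by decide +kernel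

theorem a1_ent {m : P} (h : m ∈ centralizer {un 0 1 0 0 1 0}) : m.1.1 2 1 = 0 ∧ m.1.1 2 2 = 1 ∧
    m.1.1 2 3 = m.1.1 0 1 ∧ m.1.1 3 1 = 0 ∧ m.1.1 3 2 = 0 ∧ m.1.1 3 3 = m.1.1 1 1 ∧ m.1.1 1 1 * m.1.1 1 1 = 1 := by
  have e2 := ca_ent (mem_centralizer_singleton_iff.1 h)
  have e3 := P_det m
  simp only [zero_mul, mul_zero, one_mul, mul_one, zero_add, add_zero] at e2
  obtain ⟨⟨b1, b2, b0⟩, ⟨b3, b4, b5⟩, -⟩ := e2
  rw [okL, ← b1, ← b2, ← b3, ← b4, ← b5] at e3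
  exact ⟨b1.symm, b2.symm, b0.symm, b3.symm, b4.symm, b5.symm, by linear_combination e3⟩

theorem a1_un {m : P} (h : m ∈ centralizer {un 0 1 0 0 1 0}) (e : m.1.1 1 1 = 1) :
    ∃ b c d e, m = un (m.1.1 0 1) b c d e (m.1.1 0 1) := by
  obtain ⟨b1, b2, b3, b4, b5, b6, -⟩ := a1_ent h
  exact ⟨_, _, _, _, (eq_un e b2 (b6.trans e) b1 b4 b5).trans (by rw [b3])⟩

theorem a1_mem (a b c d e : F) : un a b c d e a ∈ centralizer {un 0 1 0 0 1 0} :=
  mem_centralizer_singleton_iff.2 (by simp [un_mul, add_comm])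

/-- the action on the affine line -/
def a1σ : centralizer {un 0 1 0 0 1 0} →* Equiv.Perm (Fin 3) :=
  MonoidHom.mk' (fun m => aff (m.1.1.1 1 1) (m.1.1.1 0 1) (a1_ent m.2).2.2.2.2.2.2) fun m n => by
    obtain ⟨b1, -, -, b4, -⟩ := a1_ent n.2
    obtain ⟨k, e⟩ := aff_mul _ (m.1.1.1 0 1) (a1_ent m.2).2.2.2.2.2.2 _ (n.1.1.1 0 1) (a1_ent n.2).2.2.2.2.2.2
    rw [← e]
    congr 1
    · rw [coe_mul, P_mul_apply, b1, b4, m.1.2.2.1]; ring
    · rw [coe_mul, P_mul_apply, b1, b4, m.1.2.1]; ring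

theorem a1σ_iff {m : centralizer {un 0 1 0 0 1 0}} : a1σ m = 1 ↔ m.1.1.1 1 1 = 1 ∧ m.1.1.1 0 1 = 0 :=
  aff_one _ _ (a1_ent m.2).2.2.2.2.2.2

theorem a1_t2 : t2 ∈ centralizer {un 0 1 0 0 1 0} := mem_centralizer_singleton_iff.2 (by decide +kernel)

/-- a linear form on `J` -/
def a1ν (m : P) : F := m.1.1 0 2 - m.1.1 1 3

theorem a1ν_un (a b c d e f : F) : a1ν (un a b c d e f) = b - e := rfl

theorem a1σ_one {m : centralizer {un 0 1 0 0 1 0}} (h : a1σ m = 1) : ∃ b c d e, m.1 = un 0 b c d e 0 := by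
  obtain ⟨h1, h2⟩ := a1σ_iff.1 h
  obtain ⟨b, c, d, e, k⟩ := a1_un m.2 h1
  exact ⟨b, c, d, e, k.trans (by rw [h2])⟩

theorem a1σ_sign {m : centralizer {un 0 1 0 0 1 0}} (h : Equiv.Perm.sign (a1σ m) = 1) :
    ∃ a b c d e, m.1 = un a b c d e a := ⟨_, a1_un m.2 ((aff_sign _ _ (a1_ent m.2).2.2.2.2.2.2).1 h)⟩

/-- the group `J` -/
def JJ : Subgroup P := us (fun a _ _ _ _ f => a = 0 ∧ f = 0) ⟨rfl, rfl⟩ fun h h' => by simp [h, h']
/-- `C_U(d)` -/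
def T1 : Subgroup P := us (fun a _ _ _ _ f => a = f) rfl fun h h' => by rw [h, h']
/-- the group generated by `d` -/
def D1 : Subgroup P := us (fun a b c d e f => a = 0 ∧ b = e ∧ c = 0 ∧ d = 0 ∧ f = 0) (by simp)
  fun h h' => by simp [h, h']

theorem a1_D : ∀ e : F, un 0 e 0 0 e 0 = un 0 1 0 0 1 0 ^ e.val := by decide +kernel

theorem a1_rk : ∀ a b e : F, a ≠ 0 → ∃ i, a * (e + i) + (b + i) * a ≠ 0 := by decide

variable {G : Type*} [Group G] [Finite G] {φ : P →* G}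

theorem Md.a1_hc (h : Md φ) (ha : ¬ IsConj (φ z0) (φ (un 0 0 0 0 1 0))) {g : G}
    (hg : g * φ (un 0 1 0 0 1 0) = φ (un 0 1 0 0 1 0) * g) {a b c d e k : F}
    (hy : ¬ (a = 0 ∧ b = e ∧ c = 0 ∧ d = 0))
    (hk : g * φ (un a b c d e a) * g⁻¹ = φ (un a b c d e a) * φ (un 0 k 0 0 k 0)) : g ∈ φ.range := by
  have : Fact (Nat.Prime 3) := ⟨Nat.prime_three⟩
  have gd : ∀ i, g * φ (un 0 i 0 0 i 0) * g⁻¹ = φ (un 0 i 0 0 i 0) := fun i => by
    rw [a1_D, map_pow, ← conj_pow, hg, mul_inv_cancel_right]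
  have wc : ∀ a b c d e f, Commute (g * φ z0 * g⁻¹) (g * φ (un a b c d e f) * g⁻¹) := fun a b c d e f => by
    rw [commute_iff_eq, conj_mul, conj_mul, ← map_mul, ← map_mul, z0, ca_z (un_mem_UU ..)]
  have wd : ∀ i, Commute (g * φ z0 * g⁻¹) (φ (un 0 i 0 0 i 0)) := fun i => gd i ▸ wc _ _ _ _ _ _
  have wy : Commute (g * φ z0 * g⁻¹) (φ (un a b c d e a)) := by
    have := (wc a b c d e a).mul_right (wd k).inv_right
    rwa [hk, mul_inv_cancel_right] at this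
  by_cases a0 : a = 0 <;> by_cases d0 : d = 0
  · subst a0 d0
    have h0 : ¬ ((0 : F) = 0 ∧ b - e = 0 ∧ c = 0) := fun k => hy ⟨rfl, sub_eq_zero.1 k.2.1, k.2.2, rfl⟩
    have e1 : un 0 (b - e) c 0 0 0 = un 0 b c 0 e 0 * un 0 (-e) 0 0 (-e) 0 := by simp [un_mul, sub_eq_add_neg]
    have e2 : g * φ (un 0 (b - e) c 0 0 0) * g⁻¹ = φ (un 0 (b - e + k) c 0 k 0) := by
      rw [e1, map_mul, ← conj_mul, hk, gd, ← map_mul, ← map_mul, un_mul, un_mul]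
      congr 2 <;> ring
    obtain ⟨m, hm⟩ := ca_tr h0
    obtain rfl := (h.zJ ha ((isConj_of_mul hm).symm.trans (isConj_iff.2 ⟨g, e2⟩))).2
    exact h.mem_of_conj' h0 e2
  · subst a0
    have mJ : ∀ b c d e, φ (un 0 b c d e 0) ∈ JJ.map φ := fun b c d e => ⟨_, ⟨_, _, _, _, _, _, ⟨rfl, rfl⟩, rfl⟩, rfl⟩
    have nJ : ∀ {g : G}, g * φ z0 * g⁻¹ ∈ JJ.map φ → g ∈ φ.range := by
      rintro g ⟨_, ⟨_, _, _, _, _, _, ⟨rfl, rfl⟩, rfl⟩, e⟩
      exact h.normJ ha ⟨_, _, _, _, e.symm⟩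
    have cJ : ∀ x ∈ JJ.map φ, ∀ y ∈ JJ.map φ, x * y = y * x := by
      rintro _ ⟨_, ⟨_, _, _, _, _, _, ⟨rfl, rfl⟩, rfl⟩, rfl⟩ _ ⟨_, ⟨_, _, _, _, _, _, ⟨rfl, rfl⟩, rfl⟩, rfl⟩
      rw [← map_mul, ← map_mul, un_mul, un_mul]
      simp [add_comm]
    refine nJ (OR.le_of_burnside (p := 3) (E := centralizer {φ (un 0 1 0 0 1 0)} ⊓ centralizer {φ (un 0 b c d e 0)})
      (fun x hx => ⟨mem_centralizer_singleton_iff.2 (cJ _ hx _ (mJ ..)),
        mem_centralizer_singleton_iff.2 (cJ _ hx _ (mJ ..))⟩) ((us_p _ _ _).map φ) cJ (fun x hx hn => ?_)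
      (fun K hK hn => h.sig1 hK (hn (mJ ..)) (hn (mJ ..)))
      ⟨mem_centralizer_singleton_iff.2 (wd 1), mem_centralizer_singleton_iff.2 wy⟩)
    obtain ⟨m, rfl⟩ := nJ ((mem_normalizer_iff.1 hn _).1 (mJ ..))
    have h1 := mem_centralizer_singleton_iff.2 (h.mul_of_comm (mem_centralizer_singleton_iff.1 hx.1))
    have h2 := ca_ent (h.mul_of_comm (mem_centralizer_singleton_iff.1 hx.2))
    obtain ⟨-, b2, -, -, b5, -⟩ := a1_ent h1
    rw [b2, b5] at h2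
    obtain ⟨_, _, _, _, k⟩ := a1_un h1 (mul_right_cancel₀ d0 (by linear_combination h2.2.1.2.1))
    rw [k, show m.1.1 0 1 = 0 from mul_right_cancel₀ d0 (by linear_combination h2.1.2.1)]
    exact mJ ..
  · subst d0
    obtain ⟨i, hi⟩ := a1_rk a b e a0
    have := wy.mul_right (wd i)
    rw [← map_mul, un_mul] at this
    simp only [mul_zero, add_zero] at this
    obtain ⟨a', b', c', e', f', k⟩ := h.cenR hi this
    have h1 := h.zq (isConj_iff.2 ⟨g, k⟩)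
    have h2 := wd 1
    rw [k] at h2
    have h3 := (un_inj.1 ((un_mul ..).symm.trans ((h.mul_of_comm h2).trans (un_mul ..)))).2.2.1
    obtain rfl : a' = f' := by linear_combination h3
    obtain rfl : a' = 0 := h1.elim And.left And.right
    exact h.normJ ha ⟨_, _, _, _, k⟩
  · have := congrArg (· ^ 3) hk
    simp only [conj_pow, ← map_mul, ← map_pow, un_mul, un_cube] at this
    exact h.mem_of_conj' (fun k => mul_ne_zero (mul_ne_zero a0 d0) a0 k.2.2) this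

theorem Md.a1_main (h : Md φ) (ha : ¬ IsConj (φ z0) (φ (un 0 0 0 0 1 0))) {g : G}
    (hg : g * φ (un 0 1 0 0 1 0) = φ (un 0 1 0 0 1 0) * g) : g ∈ φ.range := by
  let C := centralizer {φ (un 0 1 0 0 1 0)}
  let ι : centralizer {un 0 1 0 0 1 0} →* C := (φ.comp (Subgroup.subtype _)).codRestrict C fun m =>
    mem_centralizer_singleton_iff.2 (by
      rw [MonoidHom.comp_apply, ← map_mul, ← map_mul]
      exact congrArg φ (mem_centralizer_singleton_iff.1 m.2))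
  have mD : ∀ {x : C}, x ∈ (D1.map φ).subgroupOf C ↔ ∃ k, (x : G) = φ (un 0 k 0 0 k 0) :=
    ⟨fun ⟨_, ⟨_, _, _, _, k, _, ⟨h1, h2, h3, h4, h5⟩, e⟩, e'⟩ => ⟨k, e'.symm.trans (by rw [e, h1, h2, h3, h4, h5])⟩,
      fun ⟨k, e⟩ => ⟨_, ⟨_, _, _, _, _, _, ⟨rfl, rfl, rfl, rfl, rfl⟩, rfl⟩, e.symm⟩⟩
  have : ((D1.map φ).subgroupOf C).Normal := ⟨fun x hx y => by
    obtain ⟨k, e⟩ := mD.1 hx
    refine mD.2 ⟨k, ?_⟩
    rw [coe_mul, coe_mul, coe_inv, e, a1_D, map_pow, ← conj_pow, mem_centralizer_singleton_iff.1 y.2,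
      mul_inv_cancel_right]⟩
  let π := QuotientGroup.mk' ((D1.map φ).subgroupOf C)
  have eq : ∀ {x y : C}, π x = π y ↔ ∃ k, (y : G) = x * φ (un 0 k 0 0 k 0) := by
    intro x y
    rw [QuotientGroup.mk'_apply, QuotientGroup.mk'_apply, QuotientGroup.eq, mD]
    simp only [coe_mul, coe_inv, inv_mul_eq_iff_eq_mul]
  have one : ∀ {n}, π (ι n) = 1 ↔ ∃ k, n.1 = un 0 k 0 0 k 0 := by
    intro n
    rw [QuotientGroup.mk'_apply, QuotientGroup.eq_one_iff, mD]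
    exact exists_congr fun k => h.inj.eq_iff
  have rg : ∀ x : C, (x : G) ∈ φ.range → π x ∈ (π.comp ι).range := by
    rintro ⟨_, hx⟩ ⟨m, rfl⟩
    exact ⟨⟨m, mem_centralizer_singleton_iff.2 (h.mul_of_comm (mem_centralizer_singleton_iff.1 hx))⟩, rfl⟩
  have key := t162 (π.comp ι) a1σ
    (fun τ => by
      obtain ⟨a, rfl | rfl⟩ := aff_sur τ
      · exact ⟨⟨_, a1_mem a 0 0 0 0⟩, rfl⟩
      · exact ⟨⟨_, a1_mem a 0 0 0 0⟩ * ⟨t2, a1_t2⟩, map_mul ..⟩)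
    (fun n hn => by
      obtain ⟨k, e⟩ := one.1 hn
      exact a1σ_iff.2 (by rw [e]; exact ⟨rfl, rfl⟩))
    (fun n hn => by
      obtain ⟨_, _, _, _, e⟩ := a1σ_one hn
      exact Subtype.ext (by rw [coe_pow, e, un_cube, mul_zero, un_zero, coe_one]))
    (fun n => a1ν n)
    (fun a b h1 h2 => by
      obtain ⟨_, _, _, _, e1⟩ := a1σ_one h1
      obtain ⟨_, _, _, _, e2⟩ := a1σ_one h2
      rw [coe_mul, e1, e2, un_mul, a1ν_un, a1ν_un, a1ν_un]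
      ring)
    (fun n hn => by
      obtain ⟨k, e⟩ := one.1 hn
      rw [e]
      exact sub_self k)
    (s := ⟨t2, a1_t2⟩) (Subtype.ext (by decide +kernel)) (fun e => absurd (a1σ_iff.1 e).1 (by decide +kernel))
    (fun j hj => by
      obtain ⟨_, _, _, _, e⟩ := a1σ_one hj
      rw [coe_mul, coe_mul, coe_inv, e, t2_un, a1ν_un, a1ν_un])
    ⟨⟨_, a1_mem 1 0 0 0 0⟩, ⟨_, a1_mem 0 0 0 1 0⟩, a1σ_iff.2 ⟨rfl, rfl⟩, by
      rw [coe_mul, coe_mul, coe_inv, un_inv, un_mul, un_mul, a1ν_un, a1ν_un]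
      decide⟩
    (fun y h1 h2 g hg => by
      obtain ⟨g, rfl⟩ := QuotientGroup.mk'_surjective _ g
      obtain ⟨a, b, c, d, e, k⟩ := a1σ_sign h1
      obtain ⟨i, hi⟩ := (eq (x := ι y) (y := g * ι y * g⁻¹)).1 (by
        rw [map_mul, map_mul, map_inv]
        exact (mul_inv_eq_iff_eq_mul.2 hg).symm)
      refine rg g (h.a1_hc ha (mem_centralizer_singleton_iff.1 g.2) (a := a) (b := b) (c := c) (d := d) (e := e)
        (k := i) ?_ (k ▸ hi))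
      rintro ⟨rfl, rfl, rfl, rfl⟩
      exact h2 (one.2 ⟨_, k⟩))
    (fun g hg => by
      obtain ⟨g, rfl⟩ := QuotientGroup.mk'_surjective _ g
      have hn : (g : G) ∈ normalizer ((T1.map φ : Subgroup G) : Set G) := mem_normalizer_fintype (by
        rintro _ ⟨_, ⟨a, b, c, d, e, _, rfl, rfl⟩, rfl⟩
        obtain ⟨y, h1, h2⟩ := hg ⟨_, a1_mem a b c d e⟩ ((aff_sign 1 a rfl).2 rfl)
        obtain ⟨_, _, _, _, _, k⟩ := a1σ_sign h1
        obtain ⟨i, hi⟩ := (eq (x := ι y) (y := g * ι ⟨_, a1_mem a b c d e⟩ * g⁻¹)).1 (by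
          rw [map_mul, map_mul, map_inv]
          exact h2.symm)
        exact ⟨y * un 0 i 0 0 i 0, mul_mem ⟨_, _, _, _, _, _, rfl, k⟩ ⟨_, _, _, _, _, _, rfl, rfl⟩,
          (map_mul ..).trans hi.symm⟩)
      obtain ⟨_, ⟨a, b, c, d, e, _, rfl, rfl⟩, e⟩ :=
        (mem_normalizer_iff.1 hn _).1 ⟨z0, ⟨_, _, _, _, _, _, rfl, rfl⟩, rfl⟩
      obtain ⟨_, ⟨a', b', c', d', e', f', -, rfl⟩, e2⟩ :=
        (mem_normalizer_iff.1 (inv_mem hn) _).1 ⟨un 0 0 0 1 0 0, ⟨_, _, _, _, _, _, rfl, rfl⟩, rfl⟩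
      have k := congrArg (fun u => g * φ u * (g : G)⁻¹) (ca_z (un_mem_UU a' b' c' d' e' f') 1)
      simp only [map_mul] at k
      rw [← conj_mul, ← conj_mul, e2, inv_inv, show ∀ u : G, g * ((g : G)⁻¹ * u * g) * (g : G)⁻¹ = u from
        fun u => by group, ← z0, ← e] at k
      have := (un_inj.1 ((un_mul ..).symm.trans ((h.mul_of_comm k).trans (un_mul ..)))).2.2.2.2.1
      exact rg g (h.normJ ha ⟨b, c, d, _, by rw [← e, show a = 0 by linear_combination this]⟩))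
  obtain ⟨n, hn⟩ := key.ge (mem_top (π ⟨g, mem_centralizer_singleton_iff.2 hg⟩))
  obtain ⟨k, e⟩ := eq.1 hn
  exact ⟨n * un 0 k 0 0 k 0, (map_mul ..).trans e.symm⟩

theorem Md.a1_one (h : Md φ) (ha : ¬ IsConj (φ z0) (φ (un 0 0 0 0 1 0))) {b c d e : F} (hn : b * e - c * d = 1)
    {g : G} (hg : g * φ (un 0 b c d e 0) = φ (un 0 b c d e 0) * g) : g ∈ φ.range := by
  obtain ⟨n, k⟩ := ca_ns hn
  obtain ⟨m, hm⟩ := h.a1_main ha (g := φ n * g * (φ n)⁻¹) (by rw [← cj_of_mul k, conj_mul, conj_mul, hg])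
  exact ⟨n⁻¹ * m * n, by rw [map_mul, map_mul, map_inv, hm]; group⟩

/-- notes/L43.md, section A1 -/
theorem Md.cen1 (h : Md φ) (ha : ¬ IsConj (φ z0) (φ (un 0 0 0 0 1 0))) {b c d e : F} (hn : b * e ≠ c * d) {g : G}
    (hg : g * φ (un 0 b c d e 0) = φ (un 0 b c d e 0) * g) : g ∈ φ.range := by
  rcases (by decide : ∀ x y : F, x ≠ y → x - y = 1 ∨ y - x = 1) _ _ hn with k | k
  · exact h.a1_one ha k hg
  obtain ⟨m, hm⟩ := (h.tw 1 1 (-1) (by decide)).a1_one (b := b) (c := -c) (d := d) (e := -e) (g := g) (fun hc => by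
    simp only [MonoidHom.comp_apply, z0, twP_un, mul_zero, mul_one, one_mul] at hc
    exact ha (((isConj_of_mul (m := t1) (by decide +kernel)).trans hc).trans
      (isConj_of_mul (m := t1) (by decide +kernel)))) (by linear_combination k) (by
    simpa only [MonoidHom.comp_apply, twP_un, mul_zero, mul_one, one_mul, neg_mul, neg_neg] using hg)
  exact ⟨_, hm⟩

end Cfsg.Agent.L43
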