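import Cfsg.Agent.L43.A0
import Cfsg.Agent.L43.A1
import Cfsg.Agent.L43.Gen
import Cfsg.Agent.AN.Emb

set_option autoImplicit false
set_option synthInstance.maxSize 4096
set_option maxRecDepth 100000

namespace Cfsg.Agent.L43

open Subgroup

theorem a2_lv (m : P) : m = lv _ _ _ _ _ _ _ _ _ (P_det m) * un (m.1.1 0 1) (m.1.1 0 2) (m.1.1 0 3) 0 0 0 := by
  refine P_ext ((P_eq m).trans (Matrix.ext fun i j => ?_))
  rw [P_mul_apply]
  fin_cases i <;> fin_cases j <;> simp [un_val, lv]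

theorem a2_cen {m : P} (h : m * t0 = t0 * m) :
    ∃ x y u v w c k, m = lv x y 0 u v 0 0 0 w k * un 0 0 c 0 0 0 := by
  have e := fun i j => congrArg (fun m : P => m.1.1 i j) h
  have z : ∀ a : F, -a = a → a = 0 := by decide
  obtain ⟨a0, a1, a2, a3⟩ := m.2
  have e1 := e 0 1
  have e2 := e 0 2
  have e3 := e 1 3
  have e4 := e 2 3
  have e5 := e 3 1
  have e6 := e 3 2
  simp only [P_mul_apply] at e1 e2 e3 e4 e5 e6
  simp [t0, dg] at e1 e2 e3 e4 e5 e6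
  have k := P_det m
  have hm := a2_lv m
  generalize P_det m = k at hm
  rw [z _ e1, z _ e2] at hm
  revert k
  rw [z _ e3.symm, z _ e4.symm, z _ e5, z _ e6]
  intro k hm
  exact ⟨_, _, _, _, _, _, k, hm⟩

theorem a2_norm : ∀ x y u v w c k c' d', lv x y 0 u v 0 0 0 w k * un 0 0 c 0 0 0 * un 0 0 0 1 0 0 =
      un 0 0 c' d' 0 0 * (lv x y 0 u v 0 0 0 w k * un 0 0 c 0 0 0) →
    (lv x y 0 u v 0 0 0 w k * un 0 0 c 0 0 0) ^ 6 = 1 ∧
    ((lv x y 0 u v 0 0 0 w k * un 0 0 c 0 0 0) ^ 3 = 1 →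
      lv x y 0 u v 0 0 0 w k * un 0 0 c 0 0 0 = un 0 0 c y 0 0) ∧
    ((∀ s t, lv x y 0 u v 0 0 0 w k * un 0 0 c 0 0 0 * un 0 0 s t 0 0 =
      un 0 0 s t 0 0 * (lv x y 0 u v 0 0 0 w k * un 0 0 c 0 0 0)) ∨
      ∀ s t, lv x y 0 u v 0 0 0 w k * un 0 0 c 0 0 0 * un 0 0 s t 0 0 =
        (un 0 0 s t 0 0)⁻¹ * (lv x y 0 u v 0 0 0 w k * un 0 0 c 0 0 0)) := by
  simp only [un_inv]
  decide +kernel

theorem a2_inv : ∀ x y u v w c k, (lv x y 0 u v 0 0 0 w k * un 0 0 c 0 0 0) ^ 2 = 1 →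
    lv x y 0 u v 0 0 0 w k * un 0 0 c 0 0 0 = 1 ∨ lv x y 0 u v 0 0 0 w k * un 0 0 c 0 0 0 = t0 ∨
    ∃ a b a' b' k', lv a 0 a' b 0 b' 0 1 0 k' * un 0 c 0 0 0 0 * t0 =
      lv x y 0 u v 0 0 0 w k * un 0 0 c 0 0 0 * (lv a 0 a' b 0 b' 0 1 0 k' * un 0 c 0 0 0 0) := by
  decide +kernel

theorem a2_D : ∀ c d : F, un 0 0 c d 0 0 * t0 = t0 * un 0 0 c d 0 0 := by
  decide +kernel

variable {G : Type*} [Group G] [Finite G] {φ : P →* G}

/-- `C(t₀) ≤ M` -/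
theorem Md.cent0 (h : Md φ) (ha : ¬ IsConj (φ z0) (φ (un 0 0 0 0 1 0))) {g : G} (hg : g * φ t0 = φ t0 * g) :
    g ∈ φ.range := by
  have : Fact (Nat.Prime 3) := ⟨Nat.prime_three⟩
  let D0 : Subgroup P := us (fun a b _ _ e f => a = 0 ∧ b = 0 ∧ e = 0 ∧ f = 0) (by simp) fun h h' => by
    simp [h, h']
  have mD : ∀ c d : F, φ (un 0 0 c d 0 0) ∈ D0.map φ := fun c d =>
    ⟨_, ⟨_, _, _, _, _, _, ⟨rfl, rfl, rfl, rfl⟩, rfl⟩, rfl⟩
  have oD : ∀ y ∈ D0.map φ, ∃ c d, y = φ (un 0 0 c d 0 0) := by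
    rintro _ ⟨_, ⟨_, _, c, d, _, _, ⟨rfl, rfl, rfl, rfl⟩, rfl⟩, rfl⟩
    exact ⟨c, d, rfl⟩
  have key : ∀ g ∈ centralizer {φ t0}, g ∈ normalizer ((D0.map φ : Subgroup G) : Set G) → ∃ m, g = φ m ∧
      m ^ 6 = 1 ∧ (m ^ 3 = 1 → g ∈ D0.map φ) ∧ ((∀ s t, m * un 0 0 s t 0 0 = un 0 0 s t 0 0 * m) ∨
        ∀ s t, m * un 0 0 s t 0 0 = (un 0 0 s t 0 0)⁻¹ * m) := fun g hg hn => by
    obtain ⟨c, d, e⟩ := oD _ ((mem_normalizer_iff.1 hn _).1 (mD 1 0))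
    obtain rfl := (h.zJ ha (isConj_iff.2 ⟨g, e⟩)).1
    obtain ⟨m, rfl⟩ := h.mem_of_conj e
    obtain ⟨x, y, u, v, w, c, k, rfl⟩ := a2_cen (h.mul_of_comm (mem_centralizer_singleton_iff.1 hg))
    obtain ⟨c', d', e'⟩ := oD _ ((mem_normalizer_iff.1 hn _).1 (mD 0 1))
    obtain ⟨k1, k2, k3⟩ := a2_norm x y u v w c k c' d' (h.mul_of_cj e')
    exact ⟨_, rfl, k1, fun k => by rw [k2 k]; exact mD _ _, k3⟩
  refine pm_le (p := 3) (by decide) (H := centralizer {φ t0}) (D := D0.map φ) (fun y hy => ?_)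
    ((us_p _ _ _).map φ) (fun x hx y hy => ?_) (fun hc => ?_) (fun g hg hn k hk => ?_) (fun g hg hn => ?_)
    (fun g hg hn => ?_) (fun y hy y1 g _ hg => ?_) (mem_centralizer_singleton_iff.2 hg)
  · obtain ⟨c, d, rfl⟩ := oD y hy
    rw [mem_centralizer_singleton_iff, ← map_mul, ← map_mul]
    exact congrArg φ (a2_D c d)
  · obtain ⟨c, d, rfl⟩ := oD x hx
    obtain ⟨c', d', rfl⟩ := oD y hy
    simp only [← map_mul, un_mul]
    simp [add_comm]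
  · obtain ⟨⟨x, hx⟩, hg⟩ := hc.exists_monoid_generator
    obtain ⟨b, c, rfl⟩ := oD x hx
    have k : ∀ b' c' : F, ∃ i : ℕ, un 0 0 (i * b) (i * c) 0 0 = un 0 0 b' c' 0 0 := fun b' c' => by
      obtain ⟨i, hi⟩ := hg ⟨_, mD b' c'⟩
      refine ⟨i, Eq.trans ?_ (h.inj ((map_pow φ _ i).trans (congrArg Subtype.val hi)))⟩
      clear hi
      induction i with
      | zero => simp [un_zero]
      | succ i ih => rw [pow_succ, ← ih, un_mul]; simp [add_mul]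
    obtain ⟨i, e1⟩ := k 1 0
    obtain ⟨j, e2⟩ := k 0 1
    rw [un_inj] at e1 e2
    exact one_ne_zero (α := F) (by
      linear_combination (-(j * c)) * e1.2.2.1 - e2.2.2.2.1 + (j * b) * e1.2.2.2.1)
  · obtain ⟨m, rfl, k1, k2, -⟩ := key g hg hn
    rw [← map_pow, ← map_one φ, h.inj.eq_iff] at hk
    refine k2 (orderOf_dvd_iff_pow_eq_one.1 (Nat.Coprime.dvd_of_dvd_mul_left (m := 2) ?_
      (orderOf_dvd_of_pow_eq_one k1)))
    exact Nat.Coprime.coprime_dvd_left (orderOf_dvd_of_pow_eq_one hk) (Nat.Coprime.pow_left _ (by decide))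
  · obtain ⟨m, rfl, -, -, k3⟩ := key g hg hn
    refine k3.imp (fun k y hy => ?_) fun k y hy => ?_ <;> obtain ⟨c, d, rfl⟩ := oD y hy
    · exact cj_of_mul (k c d)
    · rw [← map_inv φ (un 0 0 c d 0 0)]
      exact cj_of_mul (k c d)
  · obtain ⟨m, rfl, -⟩ := key g hg hn
    exact ⟨m, rfl⟩
  · obtain ⟨c, d, rfl⟩ := oD y hy
    by_cases hd : d = 0
    · subst hd
      refine h.mem_of_conj' (a' := 0) (b' := 0) (c' := c) ?_ (mul_inv_eq_iff_eq_mul.2 hg)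
      rintro ⟨-, -, rfl⟩
      exact y1 (by rw [un_zero, map_one])
    by_cases hc : c = 0
    · subst hc
      obtain ⟨n, hn⟩ := ca_sg (b := 0) (c := 0) (d := d) (e := 0) (by simp) fun k => hd k.1
      have := h.cen0 ha (g := φ n * g * (φ n)⁻¹) (by
        rw [← cj_of_mul (φ := φ) hn]
        calc _ = φ n * (g * φ (un 0 0 0 d 0 0)) * (φ n)⁻¹ := by group
          _ = _ := by rw [hg]; group)
      have hn : φ n ∈ φ.range := ⟨n, rfl⟩
      rwa [mul_mem_cancel_right (inv_mem hn), mul_mem_cancel_left hn] at this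
    · exact h.cen1 ha (by rw [zero_mul]; exact (mul_ne_zero hc hd).symm) hg

/-- notes/L43.md, section A2 -/
theorem Md.sur (h : Md φ) (ha : ¬ IsConj (φ z0) (φ (un 0 0 0 0 1 0))) : Function.Surjective φ := by
  have : Fact (Nat.Prime 2) := ⟨Nat.prime_two⟩
  have o : ∀ m : P, m ^ 2 = 1 → m ≠ 1 → orderOf (φ m) = 2 := fun m h1 h2 =>
    (orderOf_injective φ h.inj m).trans (orderOf_eq_prime h1 h2)
  refine MonoidHom.range_eq_top.1 (AN.top (z := φ t0) (a := φ t1) (b := φ (lv 0 1 0 1 0 0 0 0 (-1) (by decide)))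
    (o _ (by decide +kernel) (by decide +kernel)) ⟨_, rfl⟩ (fun g hg => h.cent0 ha hg) (fun u u2 hu => ?_)
    ⟨⟨_, rfl⟩, o _ (by decide +kernel) (by decide +kernel)⟩
    ⟨⟨_, rfl⟩, o _ (by decide +kernel) (by decide +kernel)⟩ ?_)
  · obtain ⟨m, rfl⟩ := h.cent0 ha hu
    rw [orderOf_injective φ h.inj] at u2
    obtain ⟨x, y, u, v, w, c, k, rfl⟩ := a2_cen (h.mul_of_comm hu)
    rcases a2_inv x y u v w c k (by rw [← u2, pow_orderOf_eq_one]) with e | e | ⟨a, b, a', b', k', e⟩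
    · rw [e, orderOf_one] at u2
      exact absurd u2 (by decide)
    · exact ⟨1, one_mem _, by rw [e, one_mul, inv_one, mul_one]⟩
    · exact ⟨_, ⟨_, rfl⟩, cj_of_mul e⟩
  · rw [← map_mul, orderOf_injective φ h.inj]
    exact orderOf_eq_prime_pow (p := 2) (n := 1) (by decide +kernel) (by decide +kernel)

end Cfsg.Agent.L43
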