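import Cfsg.Agent.L43.Com
import Cfsg.Agent.L43.Bar
import Cfsg.Agent.OR.A9h
import Cfsg.Agent.H4.MaxClass
import Mathlib.GroupTheory.Perm.Centralizer

set_option autoImplicit false
set_option synthInstance.maxSize 4096
set_option maxRecDepth 100000

namespace Cfsg.Agent.L43

open Subgroup

namespace B1

open Cfsg.Agent.H76 (V3)
open Cfsg.Agent.S3702 (act)
open Cfsg.Agent.OR.A9 (M tv ml)

theorem a9_cent (σ : alternatingGroup (Fin 9)) (h : orderOf σ = 3) :
    27 < Nat.card (centralizer ({σ} : Set (alternatingGroup (Fin 9)))) := by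
  have h1 : orderOf (σ : Equiv.Perm (Fin 9)) = 3 := by rw [orderOf_coe, h]
  obtain ⟨n, hn⟩ := Equiv.Perm.cycleType_prime_order (σ := (σ : Equiv.Perm (Fin 9))) (h1 ▸ Nat.prime_three)
  have h2 := Equiv.Perm.nat_card_centralizer (σ : Equiv.Perm (Fin 9))
  have h3 := (σ : Equiv.Perm (Fin 9)).sum_cycleType_le
  rw [hn, h1] at h2 h3
  have h4 : 54 < Nat.card (centralizer ({σ.1} : Set (Equiv.Perm (Fin 9)))) := by
    rw [h2]
    simp only [Multiset.sum_replicate, smul_eq_mul, Fintype.card_fin] at h3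
    have : n ≤ 2 := by omega
    interval_cases n <;> decide
  set C := centralizer ({σ.1} : Set (Equiv.Perm (Fin 9)))
  have h5 := H2.card_inf_mul_relIndex (alternatingGroup (Fin 9)) C
  have h6 : (alternatingGroup (Fin 9)).relIndex C ≤ 2 :=
    Nat.le_of_dvd two_pos (alternatingGroup.index_eq_two (α := Fin 9) ▸ relIndex_dvd_index_of_normal _ _)
  have h7 : Nat.card (alternatingGroup (Fin 9) ⊓ C : Subgroup _) ≤
      Nat.card (centralizer ({σ} : Set (alternatingGroup (Fin 9)))) :=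
    Nat.card_le_card_of_injective (fun x => ⟨⟨x.1, x.2.1⟩, mem_centralizer_singleton_iff.2
      (Subtype.ext (mem_centralizer_singleton_iff.1 x.2.2))⟩) fun x y e =>
        Subtype.ext (congrArg (fun u => u.1.1) e)
  nlinarith

theorem core_bot {X : Type*} [Group X] [Finite X] {ψ : M →* X} {J : Subgroup X} (h : OR.A9.Md ψ J) (v : V3)
    (hv : centralizer ({ψ (tv v)} : Set X) ≤ normalizer (J : Set X)) :
    pPrimeCore 3 (centralizer ({ψ (tv v)} : Set X)) = ⊥ := by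
  have : Fact (Nat.Prime 3) := ⟨Nat.prime_three⟩
  have hn : (J.subgroupOf (centralizer ({ψ (tv v)} : Set X))).Normal :=
    (normal_subgroupOf_iff_le_normalizer (h.le_cent v)).2 hv
  have hd : Disjoint (pPrimeCore 3 (centralizer ({ψ (tv v)} : Set X))) (J.subgroupOf _) := by
    obtain ⟨k, hk⟩ := (h.pg.comap_subtype (K := centralizer ({ψ (tv v)} : Set X))).exists_card_eq
    exact disjoint_of_coprime_natCard (by
      rw [subgroupOf, hk]; exact (H22.coprime_card_pPrimeCore (p := 3)).pow_right k)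
  refine (eq_bot_iff_forall _).2 fun x hx => disjoint_def.1 hd hx (h.cent fun u => ?_)
  exact congrArg Subtype.val (commute_of_normal_of_disjoint _ _ inferInstance hn hd x
    ⟨_, h.le_cent v (h.mem u)⟩ hx (h.mem u)).eq

/-- representatives of `PGL₂(3)` -/
def ta : Fin 24 → F := ![1, 0, 1, 1, 1, 1, 1, 1, 1, 0, 1, 1, 1, 0, 1, 0, 1, 1, 1, 1, 1, 0, 1, 0]
/-- representatives of `PGL₂(3)` -/
def tb : Fin 24 → F := ![0, 1, 2, 2, 1, 2, 2, 1, 0, 1, 2, 2, 0, 1, 1, 1, 0, 0, 1, 1, 0, 1, 1, 1]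
/-- representatives of `PGL₂(3)` -/
def tc : Fin 24 → F := ![0, 2, 2, 0, 2, 1, 1, 0, 2, 1, 0, 2, 1, 1, 1, 2, 2, 0, 0, 2, 1, 2, 1, 1]
/-- representatives of `PGL₂(3)` -/
def td : Fin 24 → F := ![1, 2, 2, 2, 0, 0, 1, 1, 2, 1, 1, 0, 1, 0, 0, 1, 1, 2, 2, 1, 2, 0, 2, 2]

theorem t_det : ∀ i, (ta i * td i - tb i * tc i) * (ta i * td i - tb i * tc i) = 1 := by decide +kernel

/-- block matrices -/
def bl (a b c d x y z w : F) (h : (a * d - b * c) * (a * d - b * c) = 1) : S4 :=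
  ⟨!![a, b, x, y; c, d, z, w; 0, 0, a, b; 0, 0, c, d], by rw [det4, ← h]; simp; ring⟩

theorem bl_mul (a b c d x y z w : F) (h) (a' b' c' d' x' y' z' w' : F) (h') :
    (bl a b c d x y z w h * bl a' b' c' d' x' y' z' w' h').1 =
      !![a * a' + b * c', a * b' + b * d', a * x' + b * z' + x * a' + y * c', a * y' + b * w' + x * b' + y * d';
        c * a' + d * c', c * b' + d * d', c * x' + d * z' + z * a' + w * c', c * y' + d * w' + z * b' + w * d';
        0, 0, a * a' + b * c', a * b' + b * d'; 0, 0, c * a' + d * c', c * b' + d * d'] := by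
  rw [L4Q.val_mul4]
  ext i j
  fin_cases i <;> fin_cases j <;> simp [bl, Matrix.mul_apply, Fin.sum_univ_four]

theorem un_bl (b c d e : F) : (un 0 b c d e 0 : S4) = bl 1 0 0 1 b c d e (by decide) := rfl

/-- block diagonal matrices -/
def dm (i : Fin 24) : S4 := bl (ta i) (tb i) (tc i) (td i) 0 0 0 0 (t_det i)

/-- elements of `J` -/
def jv (v : V3) (k : F) : P :=
  un 0 (v.2.1 + v.2.2 + k) (v.1 + v.2.1 - v.2.2) (-v.1 + v.2.1 - v.2.2) (-(v.2.1 + v.2.2) + k) 0

theorem jv_add (u v : V3) (k l : F) : jv (u + v) (k + l) = jv u k * jv v l := by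
  rw [jv, jv, jv, un_mul, un_inj]
  simp only [Prod.fst_add, Prod.snd_add]
  refine ⟨?_, ?_, ?_, ?_, ?_, ?_⟩ <;> ring

theorem jv_sur (b c d e : F) : ∃ v k, un 0 b c d e 0 = jv v k := by
  simp only [jv, un_inj]
  revert b c d e
  decide +kernel

theorem jv_zero (k : F) : jv 0 k = un 0 k 0 0 k 0 := by simp [jv]

theorem dm_mul (i j : Fin 24) : (dm i * dm j).1 = (dm (ml i j)).1 ∨ (dm i * dm j).1 = -(dm (ml i j)).1 := by
  rcases (by decide +kernel : ∀ i j, (ta i * ta j + tb i * tc j = ta (ml i j) ∧ ta i * tb j + tb i * td j = tb (ml i j) ∧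
      tc i * ta j + td i * tc j = tc (ml i j) ∧ tc i * tb j + td i * td j = td (ml i j)) ∨
      (ta i * ta j + tb i * tc j = -ta (ml i j) ∧ ta i * tb j + tb i * td j = -tb (ml i j) ∧
      tc i * ta j + td i * tc j = -tc (ml i j) ∧ tc i * tb j + td i * td j = -td (ml i j))) i j with
    ⟨e1, e2, e3, e4⟩ | ⟨e1, e2, e3, e4⟩
  · left
    rw [dm, dm, bl_mul, e1, e2, e3, e4]
    simp [dm, bl]
  · right
    rw [dm, dm, bl_mul, e1, e2, e3, e4]
    simp [dm, bl]

theorem dm_jv (i : Fin 24) (v : V3) (k : F) : dm i * jv v k = jv (act i v) k * dm i := by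
  obtain ⟨e1, e2, e3, e4⟩ := (by decide +kernel : ∀ i (v : V3),
    ta i * (v.2.1 + v.2.2) + tb i * (-v.1 + v.2.1 - v.2.2) =
      ((act i v).2.1 + (act i v).2.2) * ta i + ((act i v).1 + (act i v).2.1 - (act i v).2.2) * tc i ∧
    ta i * (v.1 + v.2.1 - v.2.2) + tb i * (-(v.2.1 + v.2.2)) =
      ((act i v).2.1 + (act i v).2.2) * tb i + ((act i v).1 + (act i v).2.1 - (act i v).2.2) * td i ∧
    tc i * (v.2.1 + v.2.2) + td i * (-v.1 + v.2.1 - v.2.2) =
      (-(act i v).1 + (act i v).2.1 - (act i v).2.2) * ta i + (-((act i v).2.1 + (act i v).2.2)) * tc i ∧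
    tc i * (v.1 + v.2.1 - v.2.2) + td i * (-(v.2.1 + v.2.2)) =
      (-(act i v).1 + (act i v).2.1 - (act i v).2.2) * tb i + (-((act i v).2.1 + (act i v).2.2)) * td i) i v
  refine Subtype.ext ?_
  rw [jv, jv, un_bl, un_bl, dm, bl_mul, bl_mul]
  congr 1
  simp only [Matrix.vecCons_inj, and_true, true_and]
  refine ⟨⟨?_, ?_, ?_, ?_⟩, ⟨?_, ?_, ?_, ?_⟩, ⟨?_, ?_⟩, ?_, ?_⟩
  all_goals first | ring1 | linear_combination e1 | linear_combination e2 | linear_combination e3 |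
    linear_combination e4

theorem jv_dm_inj {i : Fin 24} {v : V3} {k : F}
    (h : (jv v 0 * dm i : S4).1 = (jv 0 k : S4).1 ∨ (jv v 0 * dm i : S4).1 = -(jv 0 k : S4).1) : i = 0 ∧ v = 0 := by
  have key : ∀ s : F, (jv v 0 * dm i : S4).1 = s • (jv 0 k : S4).1 → i = 0 ∧ v = 0 := fun s h => by
    rw [jv_zero, jv, un_bl, un_bl, dm, bl_mul] at h
    have e := fun a b => congrFun (congrFun h a) b
    have e00 : 1 * ta i + 0 * tc i = s * 1 := e 0 0
    have e01 : 1 * tb i + 0 * td i = s * 0 := e 0 1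
    have e10 : 0 * ta i + 1 * tc i = s * 0 := e 1 0
    have e11 : 0 * tb i + 1 * td i = s * 1 := e 1 1
    obtain rfl := (by decide +kernel : ∀ i (s : F), 1 * ta i + 0 * tc i = s * 1 → 1 * tb i + 0 * td i = s * 0 →
      0 * ta i + 1 * tc i = s * 0 → 0 * tb i + 1 * td i = s * 1 → i = 0) i s e00 e01 e10 e11
    exact ⟨rfl, (by decide +kernel : ∀ (v : V3) (s k : F),
      1 * 0 + 0 * 0 + (v.2.1 + v.2.2 + 0) * 1 + (v.1 + v.2.1 - v.2.2) * 0 = s * k →
      1 * 0 + 0 * 0 + (v.2.1 + v.2.2 + 0) * 0 + (v.1 + v.2.1 - v.2.2) * 1 = s * 0 →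
      0 * 0 + 1 * 0 + (-v.1 + v.2.1 - v.2.2) * 1 + (-(v.2.1 + v.2.2) + 0) * 0 = s * 0 →
      0 * 0 + 1 * 0 + (-v.1 + v.2.1 - v.2.2) * 0 + (-(v.2.1 + v.2.2) + 0) * 1 = s * k → v = 0) v s k
        (e 0 2) (e 0 3) (e 1 2) (e 1 3)⟩
  exact h.elim (fun h => key 1 (by rw [h, one_smul])) fun h => key (-1) (by rw [h, neg_one_smul])

/-- the centraliser of `d` in `SL₄(3)` -/
theorem cen_d {s : S4} (h : (s * jv 0 1).1 = (jv 0 1 * s : S4).1 ∨ (s * jv 0 1).1 = -(jv 0 1 * s : S4).1) :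
    ∃ i v k, s.1 = (jv v k * dm i : S4).1 ∨ s.1 = -(jv v k * dm i : S4).1 := by
  have hd := s.2
  rw [det4] at hd
  rw [jv_zero] at h
  rcases h with h | h
  · have e := fun a b => congrFun (congrFun h a) b
    have e00 := e 0 0
    have e01 := e 0 1
    have e02 := e 0 2
    have e03 := e 0 3
    have e10 := e 1 0
    have e11 := e 1 1
    have e12 := e 1 2
    have e13 := e 1 3
    simp [un_val, Matrix.mul_apply, Fin.sum_univ_four] at e00 e01 e02 e03 e10 e11 e12 e13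
    replace e02 : s.1 2 2 = s.1 0 0 := by linear_combination -e02
    replace e03 : s.1 2 3 = s.1 0 1 := by linear_combination -e03
    replace e12 : s.1 3 2 = s.1 1 0 := by linear_combination -e12
    replace e13 : s.1 3 3 = s.1 1 1 := by linear_combination -e13
    rw [e00, e01, e10, e11, e02, e03, e12, e13] at hd
    obtain ⟨i, ε, hε, k1, k2, k3, k4, k5⟩ := (by decide +kernel : ∀ a b c d : F,
      (a * d - b * c) * (a * d - b * c) = 1 → ∃ i ε, (ε = 1 ∨ ε = -1) ∧ a = ε * ta i ∧ b = ε * tb i ∧ c = ε * tc i ∧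
        d = ε * td i ∧ ∀ x y, ∃ x' y', x = x' * a + y' * c ∧ y = x' * b + y' * d)
      (s.1 0 0) (s.1 0 1) (s.1 1 0) (s.1 1 1) (by linear_combination hd)
    obtain ⟨x, y, l1, l2⟩ := k5 (s.1 0 2) (s.1 0 3)
    obtain ⟨z, w, l3, l4⟩ := k5 (s.1 1 2) (s.1 1 3)
    obtain ⟨v, k, l⟩ := jv_sur x y z w
    have : s.1 = ε • (jv v k * dm i : S4).1 := by
      rw [← l, un_bl, dm, bl_mul]
      ext a b
      fin_cases a <;> fin_cases b <;> simp [e00, e01, e10, e11, e02, e03, e12, e13] <;>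
        first | assumption | (rw [l1, k1, k3]; ring1) | (rw [l2, k2, k4]; ring1) | (rw [l3, k1, k3]; ring1) |
          (rw [l4, k2, k4]; ring1)
    exact ⟨i, v, k, hε.imp (fun k => by rw [this, k, one_smul]) fun k => by rw [this, k, neg_one_smul]⟩
  · have e := fun a b => congrFun (congrFun h a) b
    have z : ∀ a : F, a = -a → a = 0 := by decide
    have e20 := e 2 0
    have e30 := e 3 0
    have e00 := e 0 0
    have e10 := e 1 0
    simp only [L4Q.val_mul4, Matrix.neg_apply, Matrix.mul_apply, Fin.sum_univ_four] at e20 e30 e00 e10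
    simp [un_val] at e20 e30 e00 e10
    rw [z _ e20, neg_zero, zero_add] at e00
    rw [z _ e30, neg_zero, zero_add] at e10
    rw [z _ e20, z _ e30, z _ e00, z _ e10] at hd
    simp at hd

theorem sg {b c d e : F} (h : b * e = c * d) (h0 : ¬ (b = 0 ∧ c = 0 ∧ d = 0 ∧ e = 0)) :
    ∃ s : S4, s * un 0 b c d e 0 = z0 * s := by
  by_cases k : d = 0 ∧ e = 0
  · obtain ⟨rfl, rfl⟩ := k
    obtain ⟨m, hm⟩ := ca_tr (a := 0) (b := b) (c := c) fun k => h0 ⟨k.2.1, k.2.2, rfl, rfl⟩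
    exact ⟨m, congrArg Subtype.val hm⟩
  · obtain ⟨n, hn⟩ := ca_sg h k
    refine ⟨bl 0 1 1 0 0 0 0 0 (by decide) * lv 1 0 0 0 0 1 0 (-1) 0 (by decide) * n, ?_⟩
    rw [mul_assoc, ← coe_mul, hn, coe_mul, ← mul_assoc, ← mul_assoc z0.1]
    congr 1
    decide +kernel

end B1

variable {G : Type*} [Group G] [Finite G] {f : S4 →* G}

/-- B1a: an element conjugating `z` into `J` lies in `L` -/
theorem Lb.normJ (h : Lb f) {g : G} {b c d e : F} (hg : g * f z0 * g⁻¹ = f (un 0 b c d e 0)) : g ∈ f.range := by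
  obtain ⟨s, hs⟩ := B1.sg (b := b) (c := c) (d := d) (e := e)
    (by_contra fun k => h.md.nsg k (isConj_iff.2 ⟨g, hg⟩)) (by
      rintro ⟨rfl, rfl, rfl, rfl⟩
      rw [un_zero, OneMemClass.coe_one, map_one, conj_eq_one_iff, h.ker] at hg
      revert hg
      decide +kernel)
  obtain ⟨m, hm⟩ := h.md.nz (f s * g) (by
    have : f s * g * f z0 * (f s * g)⁻¹ = f z0 := by
      calc _ = f s * (g * f z0 * g⁻¹) * (f s)⁻¹ := by group
        _ = _ := by rw [hg, ← map_mul, hs, map_mul, mul_inv_cancel_right]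
    show f s * g * f z0 * (f s * g)⁻¹ ∈ zpowers (f z0)
    rw [this]
    exact mem_zpowers _)
  exact ⟨s⁻¹ * m, by rw [map_mul, map_inv, show f m = f s * g from hm, inv_mul_cancel_left]⟩

/-- an element conjugating a singular element of `J` into `J` lies in `L` -/
theorem Lb.star (h : Lb f) {g : G} {b c d e b' c' d' e' : F} (hs : b * e = c * d)
    (h0 : ¬ (b = 0 ∧ c = 0 ∧ d = 0 ∧ e = 0)) (hg : g * f (un 0 b c d e 0) * g⁻¹ = f (un 0 b' c' d' e' 0)) :
    g ∈ f.range := by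
  obtain ⟨s, k⟩ := B1.sg hs h0
  obtain ⟨m, hm⟩ := h.normJ (g := g * (f s)⁻¹) (by
    rw [← hg, ← mul_inv_eq_iff_eq_mul.2 k, map_mul, map_mul, map_inv]
    group)
  exact ⟨m * s, by rw [map_mul, hm, inv_mul_cancel_right]⟩

open B1 Cfsg.Agent.OR.A9 in
theorem Lb.cen0 (h : Lb f) {g : G} (hg : g * f (un 0 1 0 0 1 0) = f (un 0 1 0 0 1 0) * g) : g ∈ f.range := by
  rw [← jv_zero] at hg
  obtain ⟨K, hK⟩ : ∃ K : Subgroup G, ∀ g, g ∈ K ↔ g * f (jv 0 1) = f (jv 0 1) * g :=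
    ⟨centralizer {f (jv 0 1)}, fun g => mem_centralizer_singleton_iff⟩
  have jm : ∀ u k v l, f (jv u k) * f (jv v l) = f (jv (u + v) (k + l)) := fun u k v l => by
    rw [jv_add, coe_mul, map_mul]
  have jK : ∀ v k, f (jv v k) ∈ K := fun v k => by rw [hK, jm, jm, add_comm, add_comm k]
  have dK : ∀ i, f (dm i) ∈ K := fun i => by
    rw [hK, ← map_mul, dm_jv, map_mul, show S3702.act i 0 = 0 from (by decide +kernel : ∀ i, S3702.act i 0 = 0) i]
  have j0 : f (jv 0 0) = 1 := by rw [jv_zero, un_zero, OneMemClass.coe_one, map_one]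
  let D : Subgroup K :=
    { carrier := {x | ∃ k, x.1 = f (jv 0 k)}
      one_mem' := ⟨0, j0.symm⟩
      mul_mem' := by
        rintro x y ⟨k, e⟩ ⟨l, e'⟩
        exact ⟨k + l, by rw [coe_mul, e, e', jm, add_zero]⟩
      inv_mem' := by
        rintro x ⟨k, e⟩
        exact ⟨-k, by rw [coe_inv, e, inv_eq_iff_mul_eq_one, jm, add_zero, add_neg_cancel, j0]⟩ }
  have cK : ∀ x ∈ K, ∀ k, x * f (jv 0 k) = f (jv 0 k) * x := fun x hx k => by
    have e := (hK x).1 hx
    rcases (by decide : ∀ k : F, k = 0 ∨ k = 1 ∨ k = 1 + 1) k with rfl | rfl | rfl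
    · rw [j0, one_mul, mul_one]
    · exact e
    · rw [← add_zero (0 : H76.V3), ← jm, ← mul_assoc, e, mul_assoc, e, mul_assoc]
  have nD : D.Normal := ⟨fun x ⟨k, e⟩ y => ⟨k, by
    rw [coe_mul, coe_mul, coe_inv, e, cK _ y.2, mul_inv_cancel_right]⟩⟩
  obtain ⟨π, hπ⟩ : ∃ π, π = QuotientGroup.mk' D := ⟨_, rfl⟩
  have πs : Function.Surjective π := hπ ▸ QuotientGroup.mk'_surjective D
  have πe : ∀ x y : K, π x = π y ↔ ∃ k, (x : G) = y * f (jv 0 k) := fun x y => by
    rw [hπ, eq_comm, QuotientGroup.mk'_apply, QuotientGroup.mk'_apply, QuotientGroup.eq]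
    exact exists_congr fun k => by rw [coe_mul, coe_inv, inv_mul_eq_iff_eq_mul]
  let ψ : M →* K ⧸ D := MonoidHom.mk' (fun m => π ⟨f (jv m.v 0) * f (dm m.i), mul_mem (jK _ _) (dK _)⟩)
    fun m n => by
      rw [← map_mul π]
      refine congrArg π (Subtype.ext ?_)
      show f (jv (m.v + S3702.act m.i n.v) 0) * f (dm (ml m.i n.i)) =
        f (jv m.v 0) * f (dm m.i) * (f (jv n.v 0) * f (dm n.i))
      rw [← h.eq_iff.2 (dm_mul m.i n.i), mul_assoc, ← mul_assoc (f (dm m.i)), ← map_mul f (dm m.i), dm_jv,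
        map_mul f _ (dm m.i), map_mul, ← mul_assoc, ← mul_assoc, ← mul_assoc, jm, add_zero]
  have ψa : ∀ m : M, ψ m = π ⟨f (jv m.v 0) * f (dm m.i), mul_mem (jK _ _) (dK _)⟩ := fun _ => rfl
  have ψt : ∀ v k, ψ (tv v) = π ⟨f (jv v k), jK _ _⟩ := fun v k => (ψa _).trans ((πe _ _).2 ⟨-k, by
    show f (jv v 0) * f (dm 0) = f (jv v k) * f (jv 0 (-k))
    rw [show dm 0 = 1 by decide +kernel, map_one, mul_one, jm, add_zero, add_neg_cancel]⟩)
  have ψr : ∀ x : K, (x : G) ∈ f.range → π x ∈ ψ.range := by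
    rintro ⟨_, hx⟩ ⟨s, rfl⟩
    obtain ⟨i, v, k, e⟩ := cen_d (s := s) (h.eq_iff.1 (by rw [map_mul, map_mul]; exact (hK _).1 hx))
    refine ⟨⟨i, v⟩, ((ψa _).trans ((πe _ _).2 ⟨k, ?_⟩).symm)⟩
    show f s = f (jv v 0) * f (dm i) * f (jv 0 k)
    rw [h.eq_iff.2 e, mul_assoc, cK _ (dK i), ← mul_assoc, jm, add_zero, zero_add, map_mul]
  have st : ∀ x : K, ∀ u k v, π x * ψ (tv u) * (π x)⁻¹ = ψ (tv v) →
      ∃ l, (x : G) * f (jv u k) * (x : G)⁻¹ = f (jv v l) := fun x u k v e => by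
    rw [ψt u k, ψt v 0, ← map_inv, ← map_mul, ← map_mul, πe] at e
    obtain ⟨l, e⟩ := e
    exact ⟨0 + l, e.trans ((jm ..).trans (by rw [add_zero]))⟩
  have md : OR.A9.Md ψ (OR.A9.Md.hyp ψ 0) := ⟨(injective_iff_map_eq_one _).2 fun m e => by
      rw [ψa, ← map_one π, πe] at e
      obtain ⟨k, e⟩ := e
      obtain ⟨e1, e2⟩ := jv_dm_inj (h.eq_iff.1 ((map_mul f _ _).trans (e.trans (one_mul _))))
      cases m
      cases e1
      cases e2
      rfl,
    fun g => ⟨fun ⟨v, _, e⟩ => ⟨v, e⟩, fun ⟨v, e⟩ => ⟨v, rfl, e⟩⟩, le_antisymm (fun x hx => by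
      obtain ⟨x, rfl⟩ := πs x
      obtain ⟨u, k, e⟩ := jv_sur 0 1 0 0
      obtain ⟨v, -, e'⟩ := (mem_normalizer_iff.1 hx _).1 ⟨u, rfl, rfl⟩
      obtain ⟨l, e''⟩ := st x u k v e'.symm
      rw [← e] at e''
      exact ψr x (h.normJ e'')) (by
      rintro _ ⟨m, rfl⟩
      refine mem_normalizer_fintype ?_
      rintro _ ⟨v, -, rfl⟩
      exact ⟨_, rfl, by rw [← tv_cj m v, map_mul, map_mul, map_inv]⟩)⟩
  have co : ∀ v k b c d e, jv v k = un 0 b c d e 0 → b * e = c * d → ¬ (b = 0 ∧ c = 0 ∧ d = 0 ∧ e = 0) →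
      pPrimeCore 3 (centralizer ({ψ (tv v)} : Set (K ⧸ D))) = ⊥ := fun v k b c d e e1 e2 e3 =>
    core_bot md v fun x hx => by
      obtain ⟨x, rfl⟩ := πs x
      obtain ⟨l, e'⟩ := st x v k v (mul_inv_eq_iff_eq_mul.2 (mem_centralizer_singleton_iff.1 hx))
      rw [e1] at e'
      rw [md.nrm]
      exact ψr x (h.star e2 e3 e')
  rcases md.main (co _ 0 2 1 2 1 (by decide +kernel) (by decide) (by decide))
    (co _ 2 1 0 0 0 (by decide +kernel) (by decide) (by decide)) with e | ⟨⟨e⟩⟩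
  · rw [md.nrm] at e
    obtain ⟨m, hm⟩ := e.ge (mem_top (π ⟨g, (hK g).2 hg⟩))
    obtain ⟨k, hk⟩ := (πe _ _).1 (hm.symm.trans (ψa m))
    exact ⟨jv m.v 0 * dm m.i * jv 0 k, by rw [map_mul, map_mul]; exact hk.symm⟩
  · exfalso
    have yK : f (un 1 1 0 0 0 1) ∈ K := by
      rw [hK, ← map_mul, ← map_mul]
      exact congrArg f (by decide +kernel)
    have o : orderOf (π ⟨_, yK⟩) = 3 := orderOf_eq_prime (by
      rw [← map_pow, ← map_one π]
      refine congrArg π (Subtype.ext ?_)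
      rw [coe_pow, ← map_pow, show (un 1 1 0 0 0 1 : S4) ^ 3 = 1 by decide +kernel, map_one]
      rfl) (by
      rw [← map_one π, Ne, πe]
      rintro ⟨k, e⟩
      have : un 1 1 0 0 0 1 = jv 0 k := h.md.inj (e.trans (one_mul _))
      rw [jv_zero, un_inj] at this
      exact one_ne_zero this.1)
    have h1 := a9_cent (e (π ⟨_, yK⟩)) (by rw [MulEquiv.orderOf_eq, o])
    have h2 : Nat.card (centralizer ({e (π ⟨_, yK⟩)} : Set (alternatingGroup (Fin 9)))) ≤
        Nat.card (centralizer ({π ⟨_, yK⟩} : Set (K ⧸ D))) :=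
      Nat.card_le_card_of_injective (fun x => ⟨e.symm x, mem_centralizer_singleton_iff.2 (e.injective (by
        rw [map_mul, map_mul, e.apply_symm_apply]; exact mem_centralizer_singleton_iff.1 x.2))⟩) fun x y k =>
          Subtype.ext (e.symm.injective (congrArg Subtype.val k))
    have h3 := H4.card_centralizer_quotient_le D ⟨_, yK⟩
    have h4 : ∀ x : centralizer ({⟨_, yK⟩} : Set K), ∃ p : F × F × F,
        x.1.1 = f (un p.1 (p.1 + p.2.1) p.2.2 0 p.2.1 p.1) := fun x => by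
      have e1 : x.1.1 * f (un 1 1 0 0 0 1) = f (un 1 1 0 0 0 1) * x.1.1 :=
        congrArg Subtype.val (mem_centralizer_singleton_iff.1 x.2)
      have e2 := (hK _).1 x.1.2
      obtain ⟨a, b, c, d, e, k⟩ := h.md.cenR (by decide) e1
      rw [jv_zero] at e2
      rw [k] at e1 e2
      replace e1 := h.md.mul_of_comm (x := un 1 1 0 0 0 1) e1
      replace e2 := h.md.mul_of_comm (x := un 0 1 0 0 1 0) e2
      rw [un_mul, un_mul, un_inj] at e1 e2
      obtain rfl : e = a := by linear_combination -e2.2.2.1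
      obtain rfl : b = e + d := by linear_combination e1.2.2.1
      exact ⟨(e, d, c), k⟩
    choose p hp using h4
    have h5 := Nat.card_le_card_of_injective p fun x y k => Subtype.ext (Subtype.ext (by rw [hp, hp, k]))
    rw [hπ] at h1 h2
    simp only [Nat.card_prod, Nat.card_zmod] at h5
    exact absurd (h1.trans_le (h2.trans (h3.trans h5))) (by decide)

/-- B1b: notes/L43.md, section B1 -/
theorem Lb.cen (h : Lb f) {b c d e : F} (hn : ¬ (b = 0 ∧ c = 0 ∧ d = 0 ∧ e = 0)) {g : G}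
    (hg : g * f (un 0 b c d e 0) = f (un 0 b c d e 0) * g) : g ∈ f.range := by
  have one : ∀ {f : S4 →* G}, Lb f → ∀ {b c d e : F}, b * e - c * d = 1 →
      g * f (un 0 b c d e 0) = f (un 0 b c d e 0) * g → g ∈ f.range := fun {f} h b c d e k hg => by
    obtain ⟨n, hn⟩ := ca_ns k
    have e' : f n * f (un 0 b c d e 0) * (f n)⁻¹ = f (un 0 1 0 0 1 0) := cj_of_mul (φ := f.comp P.subtype) hn
    obtain ⟨s, hs⟩ := h.cen0 (g := f n * g * (f n)⁻¹) (by
      rw [← e']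
      calc _ = f n * (g * f (un 0 b c d e 0)) * (f n)⁻¹ := by group
        _ = _ := by rw [hg]; group)
    exact ⟨(n : S4)⁻¹ * s * n, by rw [map_mul, map_mul, map_inv, hs]; group⟩
  rcases (by decide : ∀ x y : F, x = y ∨ x - y = 1 ∨ y - x = 1) (b * e) (c * d) with k | k | k
  · exact h.star k hn (mul_inv_eq_iff_eq_mul.2 hg)
  · exact one h k hg
  · obtain ⟨s, hs⟩ := one (h.tw 1 1 (-1) (by decide)) (b := b) (c := -c) (d := d) (e := -e)
      (by linear_combination k) (by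
        rw [MonoidHom.comp_apply, ← twP_val, twP_un]
        simpa using hg)
    exact ⟨_, hs⟩

end Cfsg.Agent.L43
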