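import Cfsg.Agent.L43.B1
import Cfsg.Agent.L43.Gen
import Cfsg.Agent.L43.B2a
import Cfsg.Agent.S0111

/-! The centraliser of an involution lies in `L₄(3)`. -/

set_option autoImplicit false

namespace Cfsg.Agent.L43

open Subgroup

variable {G : Type*} [Group G] [Finite G] {f : S4 →* G}

namespace B2

theorem conj_into {p : ℕ} [Fact p.Prime] {H D Y : Subgroup G} (hD : D ≤ H) (h3 : IsPGroup p D)
    (syl : ∀ g ∈ H, g ∈ normalizer (D : Set G) → ∀ k, g ^ p ^ k = 1 → g ∈ D) (hY : Y ≤ H)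
    (hp : IsPGroup p Y) : ∃ k ∈ H, ∀ y ∈ Y, k * y * k⁻¹ ∈ D := by
  obtain ⟨S, hS⟩ := OR.exists_sylow_of_norm hD h3 syl
  obtain ⟨S', h2⟩ := (hp.comap_subtype (K := H)).exists_le_sylow
  obtain ⟨k, hk⟩ := MulAction.exists_smul_eq H S' S
  refine ⟨k, k.2, fun y hy => ?_⟩
  have : k * ⟨y, hY hy⟩ * k⁻¹ ∈ ((k • S' : Sylow p H) : Subgroup H) := ⟨_, h2 hy, rfl⟩
  rw [hk, hS] at this
  exact this

/-- the centraliser of the involution in the model -/
def ps (f : S4 →* G) : R →* G := f.comp mu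

/-- the Sylow `3`-subgroup -/
def DD : Subgroup R where
  carrier := {r | ∃ a b, r = d a b}
  one_mem' := ⟨0, 0, rfl⟩
  mul_mem' := by rintro _ _ ⟨a, b, rfl⟩ ⟨a', b', rfl⟩; exact ⟨_, _, d_mul ..⟩
  inv_mem' := by rintro _ ⟨a, b, rfl⟩; exact ⟨_, _, d_inv ..⟩

/-- a permutation matrix -/
def pp : S4 := ⟨!![1, 0, 0, 0; 0, 0, 1, 0; 0, 0, 0, 1; 0, 1, 0, 0], by rw [det4]; decide⟩

omit [Finite G] in
theorem pp_d (a b : F) : f pp * ps f (d a b) * (f pp)⁻¹ = f (un 0 0 a b 0 0) := by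
  have : ∀ a b, pp * mu (d a b) = (un 0 0 a b 0 0).1 * pp := by decide +kernel
  rw [mul_inv_eq_iff_eq_mul, ← map_mul, ← this, map_mul]; rfl

omit [Finite G] in
theorem mem_range (r : R) : ps f r ∈ f.range := ⟨_, rfl⟩

omit [Finite G] in
theorem of_pp {g : G} (h : f pp * g * (f pp)⁻¹ ∈ f.range) : g ∈ f.range :=
  have k : f pp ∈ f.range := ⟨pp, rfl⟩
  (mul_mem_cancel_left k).1 ((mul_mem_cancel_right (inv_mem k)).1 h)

theorem small' : un 0 1 (-0) 0 1 0 * un 0 0 (-1) 1 0 0 = un 0 1 (-1) 1 1 0 ∧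
    un 0 1 (-1) 1 1 0 * un 0 0 (-1) 1 0 0 = un 0 1 (-2) 2 1 0 ∧ Dl ∈ T0 ∧
    (1 : F) * 1 ≠ -0 * 0 ∧ (0 : F) * 0 ≠ -1 * 1 ∧ (1 : F) * 1 ≠ -1 * 1 ∧ (1 : F) * 1 ≠ -2 * 2 := by decide +kernel

theorem d_cube (a b : F) : d a b ^ 3 = 1 := by revert a b; decide +kernel

omit [Finite G] in
theorem D_p : IsPGroup 3 (DD.map (ps f)) :=
  IsPGroup.map (by rintro ⟨_, a, b, rfl⟩; exact ⟨1, Subtype.ext (d_cube a b)⟩) _

omit [Finite G] in
theorem D_comm : ∀ x ∈ DD.map (ps f), ∀ y ∈ DD.map (ps f), x * y = y * x := by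
  rintro _ ⟨_, ⟨a, b, rfl⟩, rfl⟩ _ ⟨_, ⟨a', b', rfl⟩, rfl⟩
  rw [← map_mul, ← map_mul, d_mul, d_mul, add_comm a, add_comm b]

section

variable (h : Lb f)
include h

omit [Finite G] in
theorem ps_eq {a b : R} : ps f a = ps f b ↔ E a b := by
  refine ⟨fun e => ?_, ?_⟩
  · have := mu_ker (a * b⁻¹) ((h.ker _).1 (show ps f _ = 1 by rw [map_mul, e, map_inv, mul_inv_cancel]))
    exact this.imp mul_inv_eq_one.1 mul_inv_eq_iff_eq_mul.1
  · rintro (rfl | rfl)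
    · rfl
    · rw [map_mul, show ps f N = 1 from (h.ker _).2 (by decide +kernel), one_mul]

omit [Finite G] in
theorem ps_comm {a b : R} : ps f a * ps f b = ps f b * ps f a ↔ E (a * b) (b * a) := by
  rw [← map_mul, ← map_mul, ps_eq h]

omit [Finite G] in
theorem mem_H (r : R) : ps f r ∈ centralizer {ps f T} :=
  mem_centralizer_singleton_iff.2 ((ps_comm h).2 (comm_T r))

omit [Finite G] in
theorem ex {g : G} (hg : g ∈ f.range) (hc : g ∈ centralizer {ps f T}) : ∃ r, ps f r = g := by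
  obtain ⟨m, rfl⟩ := hg
  have e : f (m * t1 * (t1 * m)⁻¹) = 1 := by
    rw [map_mul, map_inv, map_mul, map_mul, ← mu_T, mul_inv_eq_one]
    exact mem_centralizer_singleton_iff.1 hc
  have e2 : ∀ a b c : S4, a = c * b → c.1 = 1 ∨ c.1 = -1 → a.1 = b.1 ∨ a.1 = -b.1 := by
    rintro _ b c rfl (k | k)
    · exact Or.inl ((Matrix.SpecialLinearGroup.coe_mul c b).trans (by rw [k, Matrix.one_mul]))
    · exact Or.inr ((Matrix.SpecialLinearGroup.coe_mul c b).trans (by rw [k, Matrix.neg_mul, Matrix.one_mul]))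
  obtain ⟨r, rfl⟩ := mu_range (m := m) (e2 _ _ _ (inv_mul_cancel_right _ _).symm ((h.ker _).1 e))
  exact ⟨r, rfl⟩

omit [Finite G] in
theorem mem_D {r : R} : ps f r ∈ DD.map (ps f) ↔ InD r := by
  refine ⟨?_, fun k => ⟨_, ⟨_, _, rfl⟩, ((ps_eq h).2 k).symm⟩⟩
  rintro ⟨_, ⟨a, b, rfl⟩, e⟩
  rcases (ps_eq h).1 e.symm with rfl | rfl
  exacts [(inD a b).1, (inD a b).2]

omit [Finite G] in
theorem mem_T0 {r : R} (e : ps f r ∈ T0.map (ps f)) : r ∈ T0 := by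
  obtain ⟨a, ha, e⟩ := e
  rcases (ps_eq h).1 e.symm with rfl | rfl
  exacts [ha, mul_mem (by decide +kernel) ha]

theorem D_nc : ¬ IsCyclic (DD.map (ps f)) := fun hc => by
  obtain ⟨⟨_, _, ⟨a, b, rfl⟩, rfl⟩, hg⟩ := hc.exists_monoid_generator
  have k : ∀ a' b', ∃ i : F, E (d (i * a) (i * b)) (d a' b') := fun a' b' => by
    obtain ⟨i, hi⟩ := hg ⟨_, _, ⟨a', b', rfl⟩, rfl⟩
    refine ⟨i, (ps_eq h).1 (Eq.trans ?_ (congrArg Subtype.val hi))⟩
    change _ = ps f (d a b) ^ i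
    clear hi
    induction i with
    | zero => simp only [Nat.cast_zero, zero_mul, pow_zero]; exact map_one (ps f)
    | succ i ih => rw [pow_succ, ← ih, ← map_mul, d_mul]; simp [add_mul]
  exact small.2.2.2.2.2.2 a b (k 1 0) (k 0 1)

theorem cD : ∀ y ∈ DD.map (ps f), y ≠ 1 → ∀ g : G, g * y = y * g → g ∈ f.range := by
  rintro _ ⟨_, ⟨a, b, rfl⟩, rfl⟩ h1 g hg
  refine of_pp (h.cen (b := 0) (c := a) (d := b) (e := 0) ?_ ?_)
  · rintro ⟨-, rfl, rfl, -⟩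
    exact h1 (map_one _)
  · rw [← pp_d, conj_mul, conj_mul, hg]

theorem nD {g : G} (hg : g * ps f (d 1 0) * g⁻¹ ∈ DD.map (ps f)) : g ∈ f.range := by
  obtain ⟨_, ⟨a, b, rfl⟩, e⟩ := hg
  refine of_pp (h.normJ (b := 0) (c := a) (d := b) (e := 0) ?_)
  rw [← pp_d, e, z0, ← pp_d]
  group

theorem nD' {g : G} (hc : g ∈ centralizer {ps f T}) (hg : g ∈ normalizer (DD.map (ps f) : Set G)) :
    ∃ r, ps f r = g ∧ InD (r * r) ∧ ((∀ a b, r * d a b = d a b * r) ∨ (∀ a b, r * d a b = d (-a) (-b) * r) ∨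
      ∃ a b, ∃ v ∈ [W, W * T, W * Dl, W * Dl * T], E (d a b * r) v) := by
  have k : ∀ a b, g * ps f (d a b) * g⁻¹ ∈ DD.map (ps f) := fun a b =>
    (mem_normalizer_iff.1 hg _).1 ⟨_, ⟨a, b, rfl⟩, rfl⟩
  obtain ⟨r, rfl⟩ := ex h (nD h (k 1 0)) hc
  simp only [← map_inv, ← map_mul, mem_D h] at k
  exact ⟨r, rfl, norm_D r (k 1 0) (k 0 1)⟩

theorem sylD : ∀ g ∈ centralizer {ps f T}, g ∈ normalizer (DD.map (ps f) : Set G) → ∀ k, g ^ 3 ^ k = 1 →
    g ∈ DD.map (ps f) := fun g hc hg k e => by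
  obtain ⟨r, rfl, h1, -⟩ := nD' h hc hg
  obtain ⟨n, hn⟩ : Odd (3 ^ k) := Odd.pow (by decide)
  rw [← mem_D h, map_mul, ← pow_two] at h1
  rw [hn, pow_succ, mul_eq_one_iff_inv_eq, pow_mul] at e
  exact e ▸ inv_mem (pow_mem h1 n)

omit [Finite G] in
theorem D_le : DD.map (ps f) ≤ centralizer {ps f T} := by rintro _ ⟨r, -, rfl⟩; exact mem_H h r

/-- the centraliser of the extraspecial group -/
theorem cenU {c : G} (h1 : Commute c (ps f I1)) (h2 : Commute c (ps f J1)) (h3 : Commute c (ps f I2))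
    (h4 : Commute c (ps f J2)) : c = 1 ∨ c = ps f T := by
  have : Fact (Nat.Prime 3) := ⟨Nat.prime_three⟩
  let S : Set G := {a | a ∈ (ps f).range ∧ a * a = ps f T}
  have hS : ∀ v ∈ [I1, J1, I2, J2], ps f v ∈ S := fun v hv =>
    ⟨⟨v, rfl⟩, by rw [← map_mul, ps_eq h]; exact small.2.2.1 v hv⟩
  have key : ∀ c ∈ centralizer S, c ∈ f.range → c = 1 ∨ c = ps f T := fun c hc hL => by
    have k : ∀ v ∈ [I1, J1, I2, J2], c * ps f v = ps f v * c := fun v hv => (hc _ (hS v hv)).symm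
    obtain ⟨r, rfl⟩ := ex h hL (mem_centralizer_singleton_iff.2 (by
      rw [← (hS I1 (by simp)).2, ← mul_assoc, k I1 (by simp), mul_assoc, k I1 (by simp), mul_assoc]))
    simp only [ps_comm h] at k
    rw [← map_one (ps f), ps_eq h, ps_eq h]
    exact cen_U r (k _ (by simp)) (k _ (by simp)) (k _ (by simp)) (k _ (by simp))
  have hC : centralizer S ≤ centralizer {ps f T} := fun c hc => mem_centralizer_singleton_iff.2 (by
    rw [← (hS I1 (by simp)).2, ← mul_assoc, ← hc _ (hS I1 (by simp)), mul_assoc, ← hc _ (hS I1 (by simp)),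
      mul_assoc])
  have hN : DD.map (ps f) ≤ normalizer (centralizer S : Set G) := by
    rintro _ ⟨r, -, rfl⟩
    refine mem_normalizer_fintype fun c hc a ha => ?_
    have := hc ((ps f r)⁻¹ * a * ps f r) ⟨mul_mem (mul_mem (inv_mem ⟨r, rfl⟩) ha.1) ⟨r, rfl⟩, by
      rw [show (ps f r)⁻¹ * a * ps f r * ((ps f r)⁻¹ * a * ps f r) = (ps f r)⁻¹ * (a * a * ps f r) by group,
        ha.2, ← mem_centralizer_singleton_iff.1 (mem_H h r), inv_mul_cancel_left]⟩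
    calc a * (ps f r * c * (ps f r)⁻¹) = ps f r * ((ps f r)⁻¹ * a * ps f r * c) * (ps f r)⁻¹ := by group
      _ = _ := by rw [this]; group
  have hc : c ∈ centralizer S := by
    rintro _ ⟨⟨r, rfl⟩, hr⟩
    rw [← map_mul, ps_eq h] at hr
    obtain ⟨v, hv, e⟩ := sq_T r hr
    rw [(ps_eq h).2 e]
    simp only [List.mem_cons, List.not_mem_nil, or_false] at hv
    rcases hv with rfl | rfl | rfl | rfl | rfl | rfl | rfl | rfl | rfl | rfl | rfl | rfl <;>
      (try simp only [map_mul, map_inv]) <;> refine Commute.eq (Commute.symm ?_)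
    exacts [h1, h1.inv_right, h2, h2.inv_right, h1.mul_right h2, h2.mul_right h1,
      h3, h3.inv_right, h4, h4.inv_right, h3.mul_right h4, h4.mul_right h3]
  refine key c hc (H46.le_of_forall_element D_p (IsMulCommutative.of_setLike_mul_comm D_comm) (D_nc h)
    (fun h3 => ?_) hN (fun y hy y1 g hg => cD h y hy y1 g (mem_centralizer_singleton_iff.1 hg.2)) hc)
  obtain ⟨u, hu⟩ := exists_prime_orderOf_dvd_card' 3 h3
  obtain ⟨k, hk, e⟩ := conj_into (H := centralizer {ps f T} ⊓ normalizer (centralizer S : Set G))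
    (le_inf (D_le h) hN) D_p (fun g hg => sylD h g hg.1) (Y := zpowers u.1)
    (zpowers_le.2 ⟨hC u.2, le_normalizer u.2⟩)
    (IsPGroup.of_card (n := 1) (by rw [Nat.card_zpowers, orderOf_coe, hu, pow_one]))
  have e1 := e _ (mem_zpowers _)
  have e2 : orderOf (k * u * k⁻¹) = 3 := by
    rw [← hu, ← orderOf_coe]; exact (MulAut.conj k).orderOf_eq _
  rcases key _ ((mem_normalizer_iff.1 hk.2 _).1 u.2) (by obtain ⟨r, -, e⟩ := e1; exact e ▸ mem_range r) with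
    e3 | e3
  · rw [e3, orderOf_one] at e2
    omega
  · rw [e3, mem_D h] at e1
    exact absurd e1 (by decide +kernel)

theorem nT {g : G} (hc : g ∈ centralizer {ps f T}) (hg : g ∈ normalizer (T0.map (ps f) : Set G)) :
    g ∈ f.range := by
  have sq : ∀ {g : G} {v : R}, g ∈ centralizer {ps f T} → E (v * v) T →
      g * ps f v * g⁻¹ * (g * ps f v * g⁻¹) = ps f T := fun hc e => by
    rw [conj_mul, ← map_mul, (ps_eq h).2 e, mem_centralizer_singleton_iff.1 hc, mul_inv_cancel_right]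
  have key : ∀ {g : G} {v : R}, g ∈ centralizer {ps f T} → g ∈ normalizer (T0.map (ps f) : Set G) →
      E (v * v) T → ∃ a ∈ [I1, I1⁻¹, J1, J1⁻¹, I1 * J1, J1 * I1, I2, I2⁻¹, J2, J2⁻¹, I2 * J2, J2 * I2],
        g * ps f v * g⁻¹ = ps f a := fun {g v} hc hg e => by
    obtain ⟨w, hw, e1⟩ := sq_T v e
    obtain ⟨r, -, hr⟩ := (mem_normalizer_iff.1 hg (ps f v)).1 ⟨w, small.1 w hw, ((ps_eq h).2 e1).symm⟩
    obtain ⟨a, ha, e2⟩ := sq_T r ((ps_eq h).1 (by rw [map_mul, hr, sq hc e]))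
    exact ⟨a, ha, by rw [← hr, (ps_eq h).2 e2]⟩
  obtain ⟨a, ha, ea⟩ := key (v := I1) hc hg (by decide +kernel)
  obtain ⟨b, hb, eb⟩ := key (v := J1) hc hg (by decide +kernel)
  obtain ⟨s, A, -, k, e1, e2⟩ := pairs a ha b hb ((ps_eq h).1 (by
    rw [map_mul, map_mul, ← ea, ← eb, conj_mul, ← map_mul, sq hc (by decide +kernel)]))
  generalize R.mk s A _ k = l at e1 e2
  rw [← ps_eq h, map_mul, map_mul] at e1 e2
  have c1 : Commute (ps f l * g) (ps f I1) := by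
    rw [Commute, SemiconjBy, ← mul_assoc, ← e1, ← ea]; group
  have c2 : Commute (ps f l * g) (ps f J1) := by
    rw [Commute, SemiconjBy, ← mul_assoc, ← e2, ← eb]; group
  have c3 : ∀ v ∈ [I2, J2], Commute (ps f l * g * ps f (d 1 0) * (ps f l * g)⁻¹) (ps f v) := fun v hv => by
    obtain ⟨w, hw, e⟩ := key (inv_mem hc) (inv_mem hg) (sq_conj l v hv)
    replace e : (ps f l * g)⁻¹ * ps f v * (ps f l * g) = ps f w := by
      rw [← e, map_mul, map_mul, map_inv]; group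
    have k : ∀ u ∈ [I1, J1, d 1 0], Commute (ps f l * g) (ps f u) → E (w * u) (u * w) := fun u hu c => by
      have c' : Commute (ps f v) (ps f u) := (ps_comm h).2 (small.2.1 v hv u hu)
      rw [← ps_comm h, ← e]
      exact (c.inv_left.mul_left c').mul_left c
    have := congrArg (ps f) (cen_U1 w hw (k _ (by simp) c1) (k _ (by simp) c2))
    rw [map_mul, map_mul, ← e] at this
    generalize ps f l * g = y at this ⊢
    calc y * ps f (d 1 0) * y⁻¹ * ps f v = y * (ps f (d 1 0) * (y⁻¹ * ps f v * y)) * y⁻¹ := by group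
      _ = _ := by rw [← this]; group
  refine (mul_mem_cancel_left (mem_range l)).1 ?_
  generalize ps f l * g = y at c1 c2 c3
  have c4 : ∀ u w, d 1 0 * u = w * d 1 0 → Commute y (ps f u) → Commute y (ps f w) →
      Commute ((ps f (d 1 0))⁻¹ * (y * ps f (d 1 0) * y⁻¹)) (ps f u) := fun u w e cu cw => by
    have e' := congrArg (ps f) e
    rw [map_mul, map_mul] at e'
    generalize ps f (d 1 0) = x at e' ⊢
    calc x⁻¹ * (y * x * y⁻¹) * ps f u = x⁻¹ * y * x * (y⁻¹ * ps f u) := by group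
      _ = x⁻¹ * y * (x * ps f u) * y⁻¹ := by rw [cu.inv_left.eq]; group
      _ = x⁻¹ * (y * ps f w) * x * y⁻¹ := by rw [e']; group
      _ = x⁻¹ * (ps f w * x) * (x⁻¹ * (y * x * y⁻¹)) := by rw [cw.eq]; group
      _ = _ := by rw [← e']; group
  have c5 : ∀ v ∈ [I2, J2], Commute (ps f (d 1 0))⁻¹ (ps f v) := fun v hv =>
    Commute.inv_left (Commute.symm ((ps_comm h).2 (small.2.1 v hv _ (by simp))))
  rcases cenU h (c4 I1 J1 (by decide +kernel) c1 c2)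
    (c4 J1 (I1 * J1) (by decide +kernel) c2 (by rw [map_mul]; exact c1.mul_right c2))
    ((c5 _ (by simp)).mul_left (c3 _ (by simp))) ((c5 _ (by simp)).mul_left (c3 _ (by simp))) with e | e
  · exact nD h (inv_mul_eq_one.1 e ▸ ⟨_, ⟨1, 0, rfl⟩, rfl⟩)
  · have e3 := congrArg (· ^ 3) (inv_mul_eq_iff_eq_mul.1 e)
    simp only [conj_pow, ← map_mul, ← map_pow, d_cube, map_one, mul_one, mul_inv_cancel] at e3
    exact absurd ((ps_eq h).1 (e3.symm.trans (map_one _).symm)) (by decide +kernel)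

theorem not_conj : ¬ IsConj (ps f Nu) (ps f T) := fun hc => by
  have : Fact (Nat.Prime 3) := ⟨Nat.prime_three⟩
  obtain ⟨k, hk⟩ := isConj_iff.1 hc
  let φ := f.comp P.subtype
  let Y : Subgroup P := us (fun a b c d e f => a = 0 ∧ f = 0 ∧ e = b ∧ c = -d) (by simp) fun h h' => by
    simp [h, h', add_comm]
  obtain ⟨l, -, hl⟩ := conj_into (D_le h) D_p (sylD h) (Y := (Y.map φ).map (MulAut.conj k).toMonoidHom) (by
    rintro _ ⟨_, ⟨_, ⟨_, b, _, c, _, _, ⟨rfl, rfl, rfl, rfl⟩, rfl⟩, rfl⟩, rfl⟩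
    rw [mem_centralizer_singleton_iff, ← hk]
    change k * f _ * k⁻¹ * (k * f _ * k⁻¹) = k * f _ * k⁻¹ * (k * f _ * k⁻¹)
    rw [conj_mul, conj_mul, ← map_mul, ← map_mul]
    exact congrArg (fun x => k * f x * k⁻¹) (small.2.2.2.2.1 _ c)) (((us_p _ _ _).map _).map _)
  have k1 : ∀ i j : F, ∃ a b, l * k * φ (un 0 i (-j) j i 0) * (l * k)⁻¹ = ps f (d a b) := fun i j => by
    obtain ⟨_, ⟨a, b, rfl⟩, e⟩ := hl _ ⟨_, ⟨_, ⟨_, i, _, j, _, _, ⟨rfl, rfl, rfl, rfl⟩, rfl⟩, rfl⟩, rfl⟩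
    exact ⟨a, b, by rw [e, MulEquiv.coe_toMonoidHom, MulAut.conj_apply]; group⟩
  have k2 : ∀ {i j a b : F}, l * k * φ (un 0 i (-j) j i 0) * (l * k)⁻¹ = ps f (d a b) → i * i ≠ -j * j →
      a * b ≠ 0 := fun {i j a b} e hn h0 => by
    rcases d_sing a b h0 with e1 | ⟨m, -, e1⟩
    · rw [e1, map_one, conj_eq_one_iff, ← map_one φ] at e
      obtain ⟨-, rfl, -, rfl, -⟩ := un_eq_one.1 (h.md.inj e)
      simp at hn
    · refine h.md.nsg hn (IsConj.trans ?_ (isConj_iff.2 ⟨_, e⟩).symm)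
      refine (isConj_iff.2 ⟨_, pp_d 1 0⟩).symm.trans (isConj_iff.2 ⟨ps f m, ?_⟩)
      rw [mul_inv_eq_iff_eq_mul, ← map_mul, e1, map_mul]
  obtain ⟨a, b, e1⟩ := k1 1 0
  obtain ⟨a', b', e2⟩ := k1 0 1
  have e3 : l * k * φ (un 0 1 (-1) 1 1 0) * (l * k)⁻¹ = ps f (d (a + a') (b + b')) := by
    rw [← d_mul, map_mul, ← e1, ← e2, conj_mul, ← map_mul, small'.1]
  have e4 : l * k * φ (un 0 1 (-2) 2 1 0) * (l * k)⁻¹ = ps f (d (a + a' + a') (b + b' + b')) := by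
    rw [← d_mul, map_mul, ← e3, ← e2, conj_mul, ← map_mul, small'.2.1]
  have k3 := small'.2.2.2
  exact small.2.2.2.2.2.1 _ _ _ _ (k2 e1 k3.1) (k2 e2 k3.2.1) (k2 e3 k3.2.2.1) (k2 e4 k3.2.2.2)

theorem not_fused {v : R} (hv : v ∈ [W, W * T, W * Dl, W * Dl * T]) {g : G} (hc : g ∈ centralizer {ps f T})
    {a : R} (ha : a ∈ T1) (e : g * ps f v * g⁻¹ = ps f a) : False := by
  obtain ⟨c1, c2, c3, c4, c5, c6, c7⟩ := conj_mu
  have cj : ∀ {a b : R}, IsConj (mu a) (mu b) → IsConj (ps f a) (ps f b) := fun k => f.map_isConj k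
  have hT := mem_centralizer_singleton_iff.1 hc
  have e' : g * ps f (v * T) * g⁻¹ = ps f (a * T) := by
    rw [map_mul, map_mul, ← e, mul_assoc _ g⁻¹, ← (show Commute g _ from hT).inv_left.eq.symm]; group
  have k : (IsConj (ps f T) (ps f v) ∧ IsConj (ps f Nu) (ps f (v * T))) ∨
      (IsConj (ps f Nu) (ps f v) ∧ IsConj (ps f T) (ps f (v * T))) := by
    simp only [List.mem_cons, List.not_mem_nil, or_false] at hv
    rcases hv with rfl | rfl | rfl | rfl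
    · exact Or.inl ⟨cj c3, cj c5⟩
    · exact Or.inr ⟨cj c5, by rw [show W * T * T = W by decide +kernel]; exact cj c3⟩
    · exact Or.inl ⟨cj c4, cj c6⟩
    · exact Or.inr ⟨cj c6, by rw [show W * Dl * T * T = W * Dl by decide +kernel]; exact cj c4⟩
  have i1 := isConj_iff.2 ⟨g, e⟩
  have i2 := isConj_iff.2 ⟨g, e'⟩
  suffices IsConj (ps f a) (ps f (a * T)) by
    have i3 := (i1.trans this).trans i2.symm
    rcases k with ⟨k1, k2⟩ | ⟨k1, k2⟩
    exacts [not_conj h ((k2.trans i3.symm).trans k1.symm), not_conj h ((k1.trans i3).trans k2.symm)]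
  rcases invol ha ((ps_eq h).1 (by
    rw [map_mul, ← e, conj_mul, ← map_mul, (ps_eq h).2 (small.2.2.2.1 v hv).2.2.1]
    simp)) with e1 | e1 | ⟨l, hl, e1⟩
  · rw [(ps_eq h).2 e1, map_one, conj_eq_one_iff, ← map_one (ps f), ps_eq h] at e
    exact ((small.2.2.2.1 v hv).2.2.2.1 e).elim
  · rw [(ps_eq h).2 e1, mul_inv_eq_iff_eq_mul, ← hT, mul_right_inj, ps_eq h] at e
    exact ((small.2.2.2.1 v hv).2.2.2.2 e).elim
  · have lT := mem_centralizer_singleton_iff.1 (mem_H h l)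
    have k3 : ∀ t, l * a = t * l → IsConj (ps f t) (ps f (t * T)) → IsConj (ps f a) (ps f (a * T)) :=
      fun t e2 c => by
        have e3 := congrArg (ps f) e2
        rw [map_mul, map_mul] at e3
        refine ((isConj_iff.2 ⟨_, mul_inv_eq_iff_eq_mul.2 e3⟩).trans c).trans (isConj_iff.2 ⟨ps f l, ?_⟩).symm
        rw [mul_inv_eq_iff_eq_mul, map_mul, map_mul, ← mul_assoc, e3, mul_assoc, lT, mul_assoc]
    rcases e1 with e1 | e1
    exacts [k3 _ e1 ((cj c1).symm.trans (cj c2)), k3 _ e1 (cj c7)]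

end

end B2

open B2

/-- notes/L43.md, section B2 -/
theorem Lb.cent (h : Lb f) {g : G} (hg : g * f t1 = f t1 * g) : g ∈ f.range := by
  have : Fact (Nat.Prime 3) := ⟨Nat.prime_three⟩
  have hT : T0.map (ps f) ≤ centralizer {ps f T} := by rintro _ ⟨r, -, rfl⟩; exact mem_H h r
  obtain ⟨S, hS⟩ := OR.exists_sylow_of_norm hT (T0_p.map _) fun g hc hn _ _ => by
    obtain ⟨r, rfl⟩ := ex h (nT h hc hn) hc
    refine ⟨r, norm_T0 r (mem_T0 h ?_), rfl⟩
    rw [map_mul, map_mul, map_inv]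
    exact (mem_normalizer_iff.1 hn _).1 ⟨Dl, small'.2.2.1, rfl⟩
  let H := centralizer {ps f T}
  have hv : ∀ v ∈ [W, W * T, W * Dl, W * Dl * T], ps f v ∉ (pResidual 2 H).map H.subtype := fun v hv hm => by
    have h1 : v ∈ T0 ∧ v ∉ T1 ∧ E (v * v) 1 ∧ ¬ E v 1 ∧ _ := small.2.2.2.1 v hv
    have h2 : ps f v ∉ (T0 ⊓ T1).map (ps f) := fun ⟨a, ha, e⟩ =>
      not_fused h hv (one_mem _) ha.2 (by rw [e]; simp)
    rcases S0111.result S (((T0 ⊓ T1).map (ps f)).subgroupOf H) (hS ▸ comap_mono (map_mono inf_le_left))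
      (by
        rw [hS, relIndex_subgroupOf hT]
        refine relIndex_eq_two_iff.2 ⟨_, ⟨v, h1.1, rfl⟩, ?_⟩
        rintro _ ⟨b, hb, rfl⟩
        by_cases b1 : b ∈ T1
        · have k' : ps f b ∈ (T0 ⊓ T1).map (ps f) := ⟨b, ⟨hb, b1⟩, rfl⟩
          exact Or.inr ⟨k', fun k => h2 ((mul_mem_cancel_left k').1 k)⟩
        · have k : ps f b * ps f v ∈ (T0 ⊓ T1).map (ps f) :=
            ⟨b * v, ⟨mul_mem hb h1.1, T1_or b1 h1.2.1⟩, map_mul ..⟩
          exact Or.inl ⟨k, fun k' => h2 ((mul_mem_cancel_left k').1 k)⟩)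
      ⟨ps f v, mem_H h v⟩ (by
        rw [← orderOf_coe]
        exact orderOf_eq_prime (by rw [pow_two, ← map_mul, (ps_eq h).2 h1.2.2.1, map_one])
          fun e => h1.2.2.2.1 ((ps_eq h).1 (e.trans (map_one _).symm)))
      (hS ▸ ⟨v, h1.1, rfl⟩) h2 with ⟨M, hM, hi, hn⟩ | ⟨k, a, ha, e⟩
    · obtain ⟨u, hu, e⟩ := hm
      exact hn ((show u = ⟨_, mem_H h v⟩ from Subtype.ext e) ▸
        H3.pResidual_le_of_index_eq_pow M (k := 1) hi hu)
    · exact not_fused h hv k.2 ha.2 e.symm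
  have hD : DD.map (ps f) ≤ (pResidual 2 H).map H.subtype := by
    rintro _ ⟨_, ⟨a, b, rfl⟩, rfl⟩
    refine ⟨⟨_, mem_H h _⟩, H3.mem_pResidual_of_coprime (Nat.Coprime.coprime_dvd_left
      (orderOf_dvd_of_pow_eq_one (n := 3) (Subtype.ext ?_)) (by decide)), rfl⟩
    exact (map_pow ..).symm.trans (by rw [d_cube, map_one]; rfl)
  have hR : (pResidual 2 H).map H.subtype ≤ f.range := pm_le (by decide) hD D_p D_comm (D_nc h)
    (fun g hg => sylD h g (map_subtype_le _ hg)) (fun g hg hn => ?_)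
    (fun g _ hn => nD h ((mem_normalizer_iff.1 hn _).1 ⟨_, ⟨1, 0, rfl⟩, rfl⟩)) fun y hy y1 g _ => cD h y hy y1 g
  · obtain ⟨u, hu, w, hw, e⟩ := H3.exists_mul_pResidual S ⟨g, mem_centralizer_singleton_iff.2 (by
      rwa [← mu_T] at hg)⟩
    rw [show g = u * w from congrArg Subtype.val e]
    obtain ⟨r, -, hr⟩ : (u : G) ∈ T0.map (ps f) := by rwa [hS] at hu
    exact mul_mem (hr ▸ mem_range r) (hR ⟨w, hw, rfl⟩)
  · obtain ⟨r, rfl, -, k | k | ⟨a, b, v, h1, e⟩⟩ := nD' h (map_subtype_le _ hg) hn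
    · refine Or.inl ?_
      rintro _ ⟨_, ⟨a, b, rfl⟩, rfl⟩
      rw [← map_mul, k, map_mul, mul_inv_cancel_right]
    · refine Or.inr ?_
      rintro _ ⟨_, ⟨a, b, rfl⟩, rfl⟩
      rw [← map_mul, k, map_mul, mul_inv_cancel_right, ← map_inv, d_inv]
    · exact (hv v h1 (by
        rw [← (ps_eq h).2 e, map_mul]; exact mul_mem (hD ⟨_, ⟨a, b, rfl⟩, rfl⟩) hg)).elim

end Cfsg.Agent.L43
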