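import Cfsg.Agent.L43.ComA

set_option autoImplicit false

namespace Cfsg.Agent.L43

open Subgroup
open scoped commutatorElement

variable {G : Type*} [Group G] [Finite G] {φ : P →* G}

omit [Finite G] in
theorem cj_of_mul {m x y : P} (e : m * x = y * m) : φ m * φ x * (φ m)⁻¹ = φ y := by
  rw [← map_mul, e, map_mul, mul_inv_cancel_right]

omit [Finite G] in
theorem isConj_of_mul {m x y : P} (e : m * x = y * m) : IsConj (φ x) (φ y) := isConj_iff.2 ⟨_, cj_of_mul e⟩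

omit [Finite G] in
theorem Md.mul_of_cj (h : Md φ) {m x y : P} (e : φ m * φ x * (φ m)⁻¹ = φ y) : m * x = y * m :=
  h.inj (by rw [map_mul, map_mul, ← e, inv_mul_cancel_right])

omit [Finite G] in
theorem Md.mul_of_comm (h : Md φ) {m x : P} (e : φ m * φ x = φ x * φ m) : m * x = x * m :=
  h.inj (by rw [map_mul, map_mul, e])

theorem Md.mem_of_conj' (h : Md φ) {a b c a' b' c' : F} (h0 : ¬ (a = 0 ∧ b = 0 ∧ c = 0)) {g : G}
    (hg : g * φ (un a b c 0 0 0) * g⁻¹ = φ (un a' b' c' 0 0 0)) : g ∈ φ.range := by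
  have h1 : ¬ (a' = 0 ∧ b' = 0 ∧ c' = 0) := by
    rintro ⟨rfl, rfl, rfl⟩
    rw [un_zero, map_one, conj_eq_one_iff, ← map_one φ, h.inj.eq_iff, un_eq_one] at hg
    exact h0 ⟨hg.1, hg.2.1, hg.2.2.1⟩
  obtain ⟨m, hm⟩ := ca_tr h0
  obtain ⟨n, hn⟩ := ca_tr h1
  have := h.nz (φ n * g * (φ m)⁻¹) (by
    rw [show φ n * g * (φ m)⁻¹ * φ z0 * (φ n * g * (φ m)⁻¹)⁻¹ = φ z0 by
      nth_rw 1 [← cj_of_mul hm]
      rw [← cj_of_mul hn, ← hg]
      group]
    exact mem_zpowers _)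
  obtain ⟨k, hk⟩ := this
  exact ⟨n⁻¹ * k * m, by rw [map_mul, map_mul, map_inv, hk]; group⟩

/-- C1: the normalisers of the points of `E₁` -/
theorem Md.normE (h : Md φ) {a b c : F} (h0 : ¬ (a = 0 ∧ b = 0 ∧ c = 0)) {g : G}
    (hg : g * φ (un a b c 0 0 0) * g⁻¹ ∈ zpowers (φ (un a b c 0 0 0))) : g ∈ φ.range := by
  let E : Subgroup P := us (fun _ _ _ d e f => d = 0 ∧ e = 0 ∧ f = 0) (by simp) fun h h' => by simp [h, h']
  have : zpowers (φ (un a b c 0 0 0)) ≤ E.map φ :=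
    zpowers_le.2 ⟨_, ⟨_, _, _, _, _, _, ⟨rfl, rfl, rfl⟩, rfl⟩, rfl⟩
  obtain ⟨_, ⟨a', b', c', _, _, _, ⟨rfl, rfl, rfl⟩, rfl⟩, e⟩ := this hg
  exact h.mem_of_conj' h0 e.symm

/-- C2: an element conjugating `z` into `E₁` lies in `M` -/
theorem Md.mem_of_conj (h : Md φ) {a b c : F} {g : G} (hg : g * φ z0 * g⁻¹ = φ (un a b c 0 0 0)) :
    g ∈ φ.range :=
  h.mem_of_conj' (by decide) hg

theorem com_W : ∀ b c : F, un 0 b c 0 0 0 = un 0 1 0 0 0 0 ^ b.val * z0 ^ c.val := by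
  decide +kernel

theorem Md.sig1 (h : Md φ) {K : Subgroup G} (hK : (Nat.card K).Coprime 3)
    (h1 : φ (un 0 1 0 0 0 0) ∈ normalizer (K : Set G)) (h2 : φ z0 ∈ normalizer (K : Set G)) : K = ⊥ := by
  have : Fact (Nat.Prime 3) := ⟨Nat.prime_three⟩
  have hW : ∀ b c : F, φ (un 0 b c 0 0 0) ∈ normalizer (K : Set G) := fun b c => by
    rw [com_W, map_mul, map_pow, map_pow]
    exact mul_mem (pow_mem h1 _) (pow_mem h2 _)
  have mW : ∀ b c : F, un 0 b c 0 0 0 ∈ WW := fun b c => ⟨_, _, _, _, _, _, ⟨rfl, rfl, rfl, rfl⟩, rfl⟩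
  have hM : K ≤ φ.range := by
    refine H46.le_of_forall_element (p := 3) (A := WW.map φ) ((us_p _ _ _).map φ) ⟨⟨?_⟩⟩ (fun hc => ?_)
      (Nat.prime_three.coprime_iff_not_dvd.1 hK.symm) ?_ ?_
    · rintro ⟨_, _, ⟨_, b, c, _, _, _, ⟨rfl, rfl, rfl, rfl⟩, rfl⟩, rfl⟩
        ⟨_, _, ⟨_, b', c', _, _, _, ⟨rfl, rfl, rfl, rfl⟩, rfl⟩, rfl⟩
      refine Subtype.ext ?_
      simp only [coe_mul, ← map_mul, un_mul]
      simp [add_comm]
    · obtain ⟨⟨_, _, ⟨_, b, c, _, _, _, ⟨rfl, rfl, rfl, rfl⟩, rfl⟩, rfl⟩, hg⟩ := hc.exists_monoid_generator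
      have k : ∀ b' c' : F, ∃ i : ℕ, un 0 (i * b) (i * c) 0 0 0 = un 0 b' c' 0 0 0 := fun b' c' => by
        obtain ⟨i, hi⟩ := hg ⟨_, _, mW b' c', rfl⟩
        refine ⟨i, Eq.trans ?_ (h.inj ((map_pow φ _ i).trans (congrArg Subtype.val hi)))⟩
        clear hi
        induction i with
        | zero => simp [un_zero]
        | succ i ih => rw [pow_succ, ← ih, un_mul]; simp [add_mul]
      obtain ⟨i, e1⟩ := k 1 0
      obtain ⟨j, e2⟩ := k 0 1
      rw [un_inj] at e1 e2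
      exact one_ne_zero (α := F) (by
        linear_combination (-(j * c)) * e1.2.1 - e2.2.2.1 + (j * b) * e1.2.2.1)
    · rintro _ ⟨_, ⟨_, b, c, _, _, _, ⟨rfl, rfl, rfl, rfl⟩, rfl⟩, rfl⟩
      exact hW b c
    · rintro _ ⟨_, ⟨_, b, c, _, _, _, ⟨rfl, rfl, rfl, rfl⟩, rfl⟩, rfl⟩ h0 g hg
      refine h.mem_of_conj' (a' := 0) (b' := b) (c' := c) ?_
        (mul_inv_eq_iff_eq_mul.2 (mem_centralizer_singleton_iff.1 hg.2))
      rintro ⟨-, rfl, rfl⟩
      exact h0 (by rw [un_zero, map_one])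
  have one : ∀ k ∈ K, k ^ 3 ^ 2 = 1 → k = 1 := fun k hk e => orderOf_eq_one_iff.1
    (Nat.eq_one_of_dvd_coprimes (hK.pow_right 2) (orderOf_dvd_natCard K hk) (orderOf_dvd_of_pow_eq_one e))
  refine (eq_bot_iff_forall _).2 fun k hk => ?_
  obtain ⟨m, rfl⟩ := hM hk
  have key : ∀ b c : F, m * un 0 b c 0 0 0 = un 0 b c 0 0 0 * m := fun b c => by
    obtain ⟨a', b', c', e⟩ := ca_E m 0 b c
    have h3 := one _ (mul_mem (inv_mem hk) ((mem_normalizer_iff.1 (hW b c) _).1 hk)) (by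
      rw [← mul_assoc, ← mul_assoc, ← map_inv, ← map_mul, ← map_mul, e, ← map_inv, ← map_mul, un_inv, un_mul,
        ← map_pow, un_nine, map_one])
    rw [inv_mul_eq_one, eq_mul_inv_iff_mul_eq] at h3
    exact h.mul_of_comm h3
  have e1 := (ca_ent (key 1 0)).1
  have e2 := (ca_ent (key 0 1)).1
  have e3 := P_det m
  simp only [zero_mul, mul_zero, one_mul, zero_add, add_zero] at e1 e2
  rw [okL, ← e1.1, ← e1.2.1, ← e2.1, ← e2.2.1, ← e2.2.2] at e3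
  refine one _ hk ?_
  rw [eq_un (by linear_combination e3) e1.2.1.symm e2.2.2.symm e1.1.symm e2.1.symm e2.2.1.symm, ← map_pow,
    un_nine, map_one]

/-- C3: planes of `E₁` normalise no `3'`-subgroup -/
theorem Md.sig (h : Md φ) (m : P) {K : Subgroup G} (hK : (Nat.card K).Coprime 3)
    (h1 : φ (m * un 0 1 0 0 0 0 * m⁻¹) ∈ normalizer (K : Set G)) (h2 : φ (m * z0 * m⁻¹) ∈ normalizer (K : Set G)) :
    K = ⊥ := by
  rw [map_mul, map_mul, map_inv] at h1 h2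
  exact (h.conj (φ m)).sig1 hK h1 h2

/-- C4: `C(J) = J` -/
theorem Md.cenJ (h : Md φ) {g : G} (hg : ∀ b c d e, g * φ (un 0 b c d e 0) = φ (un 0 b c d e 0) * g) :
    ∃ b c d e, g = φ (un 0 b c d e 0) := by
  obtain ⟨m, rfl⟩ := h.mem_of_conj (mul_inv_eq_iff_eq_mul.2 (hg 0 1 0 0))
  have e1 := (ca_ent (h.mul_of_comm (hg 1 0 0 0))).1
  have e2 := (ca_ent (h.mul_of_comm (hg 0 1 0 0))).1
  have e3 := ca_ent (h.mul_of_comm (hg 0 0 1 0))
  simp only [zero_mul, mul_zero, one_mul, mul_one, zero_add, add_zero] at e1 e2 e3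
  refine ⟨m.1.1 0 2, m.1.1 0 3, m.1.1 1 2, m.1.1 1 3, congrArg φ ((eq_un (e3.2.1.2.1.trans e1.2.1.symm) e1.2.1.symm e2.2.2.symm e1.1.symm e2.1.symm
    e2.2.1.symm).trans ?_)⟩
  rw [e3.1.2.1, ← e1.2.2]

theorem com_aux : ∀ a b e f x y u v w : F, a * e + b * f ≠ 0 → x * (v * w) - y * (u * w) = 1 →
    a = a * x + b * u → b = a * y + b * v → x * e + y * f = e * w → u * e + v * f = f * w →
    x = 1 ∧ y = 0 ∧ u = 0 ∧ v = 1 ∧ w = 1 := by
  decide +kernel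

/-- C5: centralisers of elements of rank two of `Q` -/
theorem Md.cenR (h : Md φ) {a b c e f : F} (hr : a * e + b * f ≠ 0) {g : G}
    (hg : g * φ (un a b c 0 e f) = φ (un a b c 0 e f) * g) : ∃ a' b' c' e' f', g = φ (un a' b' c' 0 e' f') := by
  let C := centralizer {φ (un a b c 0 e f)}
  have mR : ∀ a' b' c' e' f', a' * e + b' * f = a * e' + b * f' → φ (un a' b' c' 0 e' f') ∈ QQ.map φ ⊓ C :=
    fun a' b' c' e' f' k => ⟨⟨_, un_mem_QQ .., rfl⟩, mem_centralizer_singleton_iff.2 (by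
      rw [← map_mul, ← map_mul, un_mul, un_mul]
      refine congrArg φ (un_inj.2 ⟨add_comm .., by ring, ?_, add_comm .., by ring, add_comm ..⟩)
      linear_combination k)⟩
  have cQ : ∀ x ∈ QQ.map φ, ∀ y ∈ QQ.map φ, ∃ s, ⁅x, y⁆ = φ (un 0 0 s 0 0 0) := by
    rintro _ ⟨_, ⟨_, _, _, _, _, _, rfl, rfl⟩, rfl⟩ _ ⟨_, ⟨_, _, _, _, _, _, rfl, rfl⟩, rfl⟩
    exact ⟨_, by rw [← map_commutatorElement, ca_commQ]⟩
  have key : C ≤ QQ.map φ ⊓ C := by
    refine le_of_class2 inf_le_right (((us_p _ _ _).map φ).to_inf_left) (fun x hx y hy w hw => ?_)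
      (fun g hg hn => ⟨?_, hg⟩) fun K hK hn => ?_
    · obtain ⟨s, e⟩ := cQ x hx.1 y hy.1
      obtain ⟨w', hw', rfl⟩ := hw.1
      rw [e, ← map_mul, ← map_mul, ca_z (QQ_le hw')]
    · have n := mem_normalizer_iff.1 hn
      obtain ⟨s, k⟩ := cQ _ ((n _).1 (mR f (-e) 0 0 0 (by ring))).1 _ ((n _).1 (mR 0 0 0 b (-a) (by ring))).1
      rw [← conjugate_commutatorElement, ← map_commutatorElement, ca_commQ] at k
      have h0 : f * b + -e * -a - 0 * 0 - 0 * 0 ≠ 0 := fun e' => hr (by linear_combination e')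
      obtain ⟨m, rfl⟩ := h.mem_of_conj' (fun e' => h0 e'.2.2) k
      have e1 := (ca_ent (h.mul_of_cj k)).1
      have e2 := ca_ent (h.mul_of_comm (mem_centralizer_singleton_iff.1 hg))
      have e3 := P_det m
      simp only [zero_mul, mul_zero, zero_add, add_zero] at e1 e2
      have s0 : s ≠ 0 := fun e' => h0 (by rw [e', zero_mul] at e1; simpa using e1.2.2)
      have a1 := (mul_eq_zero.1 e1.1.symm).resolve_left s0
      have a2 := (mul_eq_zero.1 e1.2.1.symm).resolve_left s0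
      rw [okL] at e3
      rw [a1, a2] at e2 e3
      obtain ⟨b1, b2, b3, b4, b5⟩ := com_aux a b e f (m.1.1 1 1) (m.1.1 1 2) (m.1.1 2 1) (m.1.1 2 2) (m.1.1 3 3) hr
        (by linear_combination e3) (by linear_combination e2.1.1) (by linear_combination e2.1.2.1)
        e2.2.1.2.2 e2.2.2.1.2.2
      refine ⟨m, ?_, rfl⟩
      rw [eq_un b1 b4 b5 b3 a1 a2, b2]
      exact un_mem_QQ ..
    · obtain ⟨n, n1, n2⟩ := ca_n (a := f) (b := -e) fun k => hr (by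
        rw [k.1, neg_eq_zero.1 k.2, mul_zero, mul_zero, add_zero])
      obtain ⟨e', k1, k2⟩ := n2 0 0 0 (by ring)
      rw [k1.2 ⟨rfl, rfl⟩] at k2
      refine h.sig n⁻¹ hK (hn ?_) (hn ?_)
      · rw [inv_inv, mul_assoc, ← k2, inv_mul_cancel_left]
        exact mR _ _ _ _ _ (by ring)
      · rw [inv_inv, mul_assoc, ← n1, inv_mul_cancel_left]
        exact mR _ _ _ _ _ (by ring)
  obtain ⟨_, ⟨a', b', c', _, e', f', rfl, rfl⟩, e⟩ := (key (mem_centralizer_singleton_iff.2 hg)).1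
  exact ⟨a', b', c', e', f', e.symm⟩

theorem com_syl {y : G} (hc : IsConj (φ z0) y)
    (k : ∀ g ∈ centralizer {y}, g ∈ normalizer ((UU.map φ ⊓ centralizer {y} : Subgroup G) : Set G) →
      ∀ k, g ^ 3 ^ k = 1 → g ∈ UU.map φ) (a b c d e f : F) : φ (un a b c d e f) * y = y * φ (un a b c d e f) :=
  mem_centralizer_singleton_iff.1 (syl_le ((us_p _ _ _).map φ) (by
    rintro _ ⟨u, hu, rfl⟩
    rw [← map_mul, ← map_mul, z0, ca_z hu]) hc inf_le_left inf_le_right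
    (fun g h1 h2 n h3 => ⟨k g h1 h2 n h3, h1⟩) ⟨_, un_mem_UU .., rfl⟩).2

theorem Md.nsg0 (h : Md φ) : ¬ IsConj (φ z0) (φ (un 0 1 0 0 1 0)) := fun hc => by
  refine absurd (h.mul_of_comm (com_syl hc (fun g hg hn i hi => ?_) 1 0 0 0 0 0)) (by decide +kernel)
  have mT : ∀ a d, φ (un a 0 0 d 0 a) ∈ UU.map φ ⊓ centralizer {φ (un 0 1 0 0 1 0)} := fun a d =>
    ⟨⟨_, un_mem_UU .., rfl⟩, mem_centralizer_singleton_iff.2 (by
      rw [← map_mul, ← map_mul, un_mul, un_mul]; simp)⟩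
  have n := mem_normalizer_iff.1 hn
  obtain ⟨x, hx, ex⟩ := ((n _).1 (mT 0 1)).1
  obtain ⟨y, hy, ey⟩ := ((n _).1 (mT 1 0)).1
  obtain ⟨s, k⟩ := ca_comm3 hx hy hy
  replace k := congrArg φ k
  rw [map_commutatorElement, map_commutatorElement, ex, ey, ← conjugate_commutatorElement, ← conjugate_commutatorElement,
    ← map_commutatorElement, ← map_commutatorElement,
    show ⁅⁅un 0 0 0 1 0 0, un 1 0 0 0 0 1⁆, un 1 0 0 0 0 1⁆ = z0 by decide +kernel] at k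
  obtain ⟨m, rfl⟩ := h.mem_of_conj k
  refine OR.mem_of_sq ⟨m * m, ?_, map_mul ..⟩ i hi
  have e2 := ca_ent (h.mul_of_comm (mem_centralizer_singleton_iff.1 hg))
  have e3 := P_det m
  obtain ⟨a0, a1, a2, a3⟩ := m.2
  simp only [zero_mul, mul_zero, one_mul, mul_one, zero_add, add_zero] at e2
  obtain ⟨⟨b1, b2, -⟩, ⟨b3, b4, b5⟩, -⟩ := e2
  rw [okL, ← b1, ← b2, ← b3, ← b4, ← b5] at e3
  rw [eq_un (m := m * m)]
  · exact un_mem_UU ..
  all_goals rw [P_mul_apply]; simp only [a1, a2, a3, ← b1, ← b2, ← b3, ← b4, ← b5]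
  · linear_combination e3
  · ring
  · linear_combination e3
  all_goals ring

theorem Md.nsg1 (h : Md φ) {b c d e : F} (hn : b * e - c * d = 1) : ¬ IsConj (φ z0) (φ (un 0 b c d e 0)) :=
  fun hc => let ⟨_, k⟩ := ca_ns hn; h.nsg0 (hc.trans (isConj_of_mul k))

/-- C6: nonsingular elements of `J` are not conjugate to `z` -/
theorem Md.nsg (h : Md φ) {b c d e : F} (hn : b * e ≠ c * d) : ¬ IsConj (φ z0) (φ (un 0 b c d e 0)) := by
  rcases (by decide : ∀ x y : F, x ≠ y → x - y = 1 ∨ y - x = 1) _ _ hn with k | k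
  · exact h.nsg1 k
  intro hc
  refine (h.tw 1 1 (-1) (by decide)).nsg1 (b := b) (c := -c) (d := d) (e := -e) (by linear_combination k) ?_
  simp only [MonoidHom.comp_apply, z0, twP_un, mul_zero, mul_one, one_mul, neg_mul, neg_neg]
  exact (isConj_of_mul (m := t1) (by decide +kernel)).trans hc

/-- C7: conjugates of `z` in `Q` -/
theorem Md.zq (h : Md φ) {a b c e f : F} (hc : IsConj (φ z0) (φ (un a b c 0 e f))) :
    (a = 0 ∧ b = 0) ∨ (e = 0 ∧ f = 0) := by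
  by_contra h0
  rw [not_or] at h0
  by_cases hr : a * e + b * f = 0
  · obtain ⟨n, -, k⟩ := ca_n h0.1
    obtain ⟨e', k1, k2⟩ := k c e f hr
    exact h.nsg (by simpa using mt k1.1 h0.2) (hc.trans (isConj_of_mul k2))
  obtain ⟨_, _, _, _, _, k⟩ := h.cenR hr (com_syl hc (fun g hg _ _ _ => by
    obtain ⟨_, _, _, _, _, rfl⟩ := h.cenR hr (mem_centralizer_singleton_iff.1 hg)
    exact ⟨_, un_mem_UU .., rfl⟩) 0 0 0 1 0 0)
  exact one_ne_zero (un_inj.1 (h.inj k)).2.2.2.1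

/-- C8: case (a), conjugates of `z` in `J` -/
theorem Md.zJ (h : Md φ) (ha : ¬ IsConj (φ z0) (φ (un 0 0 0 0 1 0))) {b c d e : F}
    (hc : IsConj (φ z0) (φ (un 0 b c d e 0))) : d = 0 ∧ e = 0 := by
  by_contra h0
  obtain ⟨_, k⟩ := ca_sg (not_not.1 fun k => h.nsg k hc) h0
  exact ha (hc.trans (isConj_of_mul k))

/-- C9: case (a), `N(J) ≤ M` -/
theorem Md.normJ (h : Md φ) (ha : ¬ IsConj (φ z0) (φ (un 0 0 0 0 1 0))) {g : G}
    (hg : ∃ b c d e, g * φ z0 * g⁻¹ = φ (un 0 b c d e 0)) : g ∈ φ.range := by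
  obtain ⟨b, c, d, e, k⟩ := hg
  obtain ⟨rfl, rfl⟩ := h.zJ ha (isConj_iff.2 ⟨g, k⟩)
  exact h.mem_of_conj k

end Cfsg.Agent.L43
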