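import Cfsg.Agent.L43.Defs
import Cfsg.Agent.OR.L3
import Cfsg.Agent.H46.Generation
import Cfsg.Agent.S4226

/-! Computations in the model `P`, and two Sylow lemmas. -/

set_option autoImplicit false
set_option synthInstance.maxSize 4096
set_option maxRecDepth 100000

namespace Cfsg.Agent.L43

open Subgroup
open scoped commutatorElement

/-- block diagonal elements of `P` -/
def okL (a b c d e f g h i : F) : Prop := a * (e * i - f * h) - b * (d * i - f * g) + c * (d * h - e * g) = 1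

instance (a b c d e f g h i : F) : Decidable (okL a b c d e f g h i) := by unfold okL; infer_instance

/-- block diagonal elements of `P` -/
def lv (a b c d e f g h i : F) (k : okL a b c d e f g h i) : P :=
  pm !![1, 0, 0, 0; 0, a, b, c; 0, d, e, f; 0, g, h, i]
    ⟨by rw [det4]; simpa [okL] using k, rfl, rfl, rfl, rfl⟩

theorem ca_tr {a b c : F} (h : ¬ (a = 0 ∧ b = 0 ∧ c = 0)) : ∃ m : P, m * un a b c 0 0 0 = z0 * m := by
  have : ∀ a b c : F, ¬ (a = 0 ∧ b = 0 ∧ c = 0) →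
      (∃ k, lv c 0 0 0 1 0 a b c k * un a b c 0 0 0 = z0 * lv c 0 0 0 1 0 a b c k) ∨
      (∃ k, lv 1 0 0 0 0 (-b) a b c k * un a b c 0 0 0 = z0 * lv 1 0 0 0 0 (-b) a b c k) ∨
      ∃ k, lv 0 1 0 0 0 a a b c k * un a b c 0 0 0 = z0 * lv 0 1 0 0 0 a a b c k := by
    decide +kernel
  rcases this a b c h with ⟨_, e⟩ | ⟨_, e⟩ | ⟨_, e⟩ <;> exact ⟨_, e⟩

theorem ca_n {a b : F} (h : ¬ (a = 0 ∧ b = 0)) : ∃ n : P, n * z0 = z0 * n ∧ ∀ c e f, a * e + b * f = 0 →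
    ∃ e', (e' = 0 ↔ e = 0 ∧ f = 0) ∧ n * un a b c 0 e f = un 0 1 c 0 e' 0 * n := by
  have : ∀ a b : F, ¬ (a = 0 ∧ b = 0) →
      (∃ k, lv b 0 0 a b 0 0 0 1 k * z0 = z0 * lv b 0 0 a b 0 0 0 1 k ∧ ∀ c e f, a * e + b * f = 0 →
        (b * e = 0 ↔ e = 0 ∧ f = 0) ∧
        lv b 0 0 a b 0 0 0 1 k * un a b c 0 e f = un 0 1 c 0 (b * e) 0 * lv b 0 0 a b 0 0 0 1 k) ∨
      ∃ k, lv 0 (-a) 0 a b 0 0 0 1 k * z0 = z0 * lv 0 (-a) 0 a b 0 0 0 1 k ∧ ∀ c e f, a * e + b * f = 0 →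
        (-a * f = 0 ↔ e = 0 ∧ f = 0) ∧
        lv 0 (-a) 0 a b 0 0 0 1 k * un a b c 0 e f = un 0 1 c 0 (-a * f) 0 * lv 0 (-a) 0 a b 0 0 0 1 k := by
    decide +kernel
  rcases this a b h with ⟨_, e, e'⟩ | ⟨_, e, e'⟩ <;> exact ⟨_, e, fun c e f k => ⟨_, e' c e f k⟩⟩

theorem ca_ns {b c d e : F} (h : b * e - c * d = 1) :
    ∃ n : P, n * un 0 b c d e 0 = un 0 1 0 0 1 0 * n := by
  have : ∀ b c d e : F, b * e - c * d = 1 →
      ∃ k, lv 1 0 0 0 b c 0 d e k * un 0 b c d e 0 = un 0 1 0 0 1 0 * lv 1 0 0 0 b c 0 d e k := by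
    decide +kernel
  exact ⟨_, (this b c d e h).2⟩

theorem ca_sg {b c d e : F} (h : b * e = c * d) (h0 : ¬ (d = 0 ∧ e = 0)) :
    ∃ n : P, n * un 0 b c d e 0 = un 0 0 0 0 1 0 * n := by
  have : ∀ b c d e : F, b * e = c * d → ¬ (d = 0 ∧ e = 0) → ∃ s,
      (∃ k, lv 1 0 0 0 e 0 0 d e k * un s 0 0 0 0 0 * un 0 b c d e 0 =
        un 0 0 0 0 1 0 * (lv 1 0 0 0 e 0 0 d e k * un s 0 0 0 0 0)) ∨
      ∃ k, lv 1 0 0 0 0 (-d) 0 d e k * un s 0 0 0 0 0 * un 0 b c d e 0 =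
        un 0 0 0 0 1 0 * (lv 1 0 0 0 0 (-d) 0 d e k * un s 0 0 0 0 0) := by
    decide +kernel
  obtain ⟨s, ⟨_, e⟩ | ⟨_, e⟩⟩ := this b c d e h h0 <;> exact ⟨_, e⟩

theorem un_cube (a b c d e f : F) : un a b c d e f ^ 3 = un 0 0 (a * d * f) 0 0 0 := by
  have h : (3 : F) = 0 := rfl
  rw [pow_three, un_mul, un_mul, un_inj]
  refine ⟨?_, ?_, ?_, ?_, ?_, ?_⟩
  · linear_combination a * h
  · linear_combination (b + a * d) * h
  · linear_combination (c + a * e + b * f) * h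
  · linear_combination d * h
  · linear_combination (e + d * f) * h
  · linear_combination f * h

theorem un_nine (a b c d e f : F) : un a b c d e f ^ 3 ^ 2 = 1 := by
  rw [pow_two, pow_mul, un_cube, un_cube, zero_mul, zero_mul, un_zero]

/-- subgroups of unitriangular matrices described by their entries -/
def us (p : F → F → F → F → F → F → Prop) (h0 : p 0 0 0 0 0 0)
    (hm : ∀ {a b c d e f a' b' c' d' e' f'}, p a b c d e f → p a' b' c' d' e' f' →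
      p (a + a') (b + b' + a * d') (c + c' + a * e' + b * f') (d + d') (e + e' + d * f') (f + f')) :
    Subgroup P :=
  let S : Submonoid P :=
    { carrier := {m | ∃ a b c d e f, p a b c d e f ∧ m = un a b c d e f}
      one_mem' := ⟨0, 0, 0, 0, 0, 0, h0, un_zero.symm⟩
      mul_mem' := by
        rintro _ _ ⟨a, b, c, d, e, f, h, rfl⟩ ⟨a', b', c', d', e', f', h', rfl⟩
        exact ⟨_, _, _, _, _, _, hm h h', un_mul ..⟩ }
  { S with
    inv_mem' := fun {x} hx => by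
      have h8 := S.pow_mem hx 8
      obtain ⟨a, b, c, d, e, f, -, rfl⟩ := hx
      rwa [eq_inv_of_mul_eq_one_left ((pow_succ _ 8).symm.trans (un_nine a b c d e f))] at h8 }

theorem us_p (p : F → F → F → F → F → F → Prop) (h0 hm) : IsPGroup 3 (us p h0 hm) := by
  rintro ⟨_, a, b, c, d, e, f, h, rfl⟩
  exact ⟨2, Subtype.ext (un_nine ..)⟩

/-- the unitriangular group -/
def UU : Subgroup P := us (fun _ _ _ _ _ _ => True) trivial fun _ _ => trivial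
/-- the group `Q` -/
def QQ : Subgroup P := us (fun _ _ _ d _ _ => d = 0) rfl fun h h' => by rw [h, h', add_zero]
/-- the plane `W` -/
def WW : Subgroup P := us (fun a _ _ d e f => a = 0 ∧ d = 0 ∧ e = 0 ∧ f = 0) (by simp) fun h h' => by
  simp [h, h']

theorem un_mem_UU (a b c d e f : F) : un a b c d e f ∈ UU := ⟨a, b, c, d, e, f, trivial, rfl⟩
theorem un_mem_QQ (a b c e f : F) : un a b c 0 e f ∈ QQ := ⟨a, b, c, 0, e, f, rfl, rfl⟩
theorem QQ_le : QQ ≤ UU := fun _ ⟨_, _, _, _, _, _, _, e⟩ => e ▸ un_mem_UU ..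

theorem ca_z {m : P} (h : m ∈ UU) (c : F) : m * un 0 0 c 0 0 0 = un 0 0 c 0 0 0 * m := by
  obtain ⟨_, _, _, _, _, _, -, rfl⟩ := h
  simp [un_mul, add_comm]

theorem ca_comm (a b c d e f a' b' c' d' e' f' : F) : ∃ s, ⁅un a b c d e f, un a' b' c' d' e' f'⁆ =
    un 0 (a * d' - a' * d) s 0 (d * f' - d' * f) 0 := by
  refine ⟨a * e' + b * f' - a' * e - b' * f - (a * d' - a' * d) * (f + f'), ?_⟩
  rw [commutatorElement_def, mul_inv_eq_iff_eq_mul, mul_inv_eq_iff_eq_mul]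
  simp only [un_mul, un_inj]
  refine ⟨?_, ?_, ?_, ?_, ?_, ?_⟩ <;> ring

theorem ca_commQ (a b c e f a' b' c' e' f' : F) : ⁅un a b c 0 e f, un a' b' c' 0 e' f'⁆ =
    un 0 0 (a * e' + b * f' - a' * e - b' * f) 0 0 0 := by
  rw [commutatorElement_def, mul_inv_eq_iff_eq_mul, mul_inv_eq_iff_eq_mul]
  simp only [un_mul, un_inj]
  refine ⟨?_, ?_, ?_, ?_, ?_, ?_⟩ <;> ring

theorem ca_comm2 (b c e a' b' c' d' e' f' : F) : ⁅un 0 b c 0 e 0, un a' b' c' d' e' f'⁆ =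
    un 0 0 (b * f' - a' * e) 0 0 0 := by
  rw [commutatorElement_def, mul_inv_eq_iff_eq_mul, mul_inv_eq_iff_eq_mul]
  simp only [un_mul, un_inj]
  refine ⟨?_, ?_, ?_, ?_, ?_, ?_⟩ <;> ring

theorem ca_comm3 {x y w : P} (hx : x ∈ UU) (hy : y ∈ UU) (hw : w ∈ UU) :
    ∃ c, ⁅⁅x, y⁆, w⁆ = un 0 0 c 0 0 0 := by
  obtain ⟨_, _, _, _, _, _, -, rfl⟩ := hx
  obtain ⟨_, _, _, _, _, _, -, rfl⟩ := hy
  obtain ⟨_, _, _, _, _, _, -, rfl⟩ := hw
  obtain ⟨s, e⟩ := ca_comm ..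
  exact ⟨_, by rw [e, ca_comm2]⟩

/-- `E₁` is normal in `P` -/
theorem ca_E (m : P) (a b c : F) : ∃ a' b' c', m⁻¹ * un a b c 0 0 0 * m = un a' b' c' 0 0 0 := by
  obtain ⟨a0, a1, a2, a3⟩ := m.2
  have k := fun j => congrArg (fun g : P => g.1.1 0 j) (inv_mul_cancel m)
  refine ⟨a * m.1.1 1 1 + b * m.1.1 2 1 + c * m.1.1 3 1, a * m.1.1 1 2 + b * m.1.1 2 2 + c * m.1.1 3 2,
    a * m.1.1 1 3 + b * m.1.1 2 3 + c * m.1.1 3 3, ?_⟩
  rw [mul_assoc, inv_mul_eq_iff_eq_mul]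
  refine P_ext (Matrix.ext fun i j => ?_)
  rw [P_mul_apply, P_mul_apply]
  fin_cases i <;> fin_cases j <;> simp [un_val, a0, a1, a2, a3] <;> ring

theorem P_det (m : P) : okL (m.1.1 1 1) (m.1.1 1 2) (m.1.1 1 3) (m.1.1 2 1) (m.1.1 2 2) (m.1.1 2 3)
    (m.1.1 3 1) (m.1.1 3 2) (m.1.1 3 3) := by
  obtain ⟨a0, a1, a2, a3⟩ := m.2
  have := m.1.2
  rw [det4, a0, a1, a2, a3] at this
  rw [okL]
  linear_combination this

theorem ca_ent {m : P} {a b c d e f a' b' c' d' e' f' : F} (h : m * un a b c d e f = un a' b' c' d' e' f' * m) :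
    (a = a' * m.1.1 1 1 + b' * m.1.1 2 1 + c' * m.1.1 3 1 ∧
    b + m.1.1 0 1 * d = a' * m.1.1 1 2 + b' * m.1.1 2 2 + c' * m.1.1 3 2 ∧
    c + m.1.1 0 1 * e + m.1.1 0 2 * f = a' * m.1.1 1 3 + b' * m.1.1 2 3 + c' * m.1.1 3 3) ∧
    (0 = d' * m.1.1 2 1 + e' * m.1.1 3 1 ∧ m.1.1 1 1 * d = d' * m.1.1 2 2 + e' * m.1.1 3 2 ∧
    m.1.1 1 1 * e + m.1.1 1 2 * f = d' * m.1.1 2 3 + e' * m.1.1 3 3) ∧
    (0 = f' * m.1.1 3 1 ∧ m.1.1 2 1 * d = f' * m.1.1 3 2 ∧ m.1.1 2 1 * e + m.1.1 2 2 * f = f' * m.1.1 3 3) ∧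
    m.1.1 3 1 * d = 0 ∧ m.1.1 3 1 * e + m.1.1 3 2 * f = 0 := by
  obtain ⟨a0, a1, a2, a3⟩ := m.2
  have k := fun i j => (P_mul_apply _ _ i j).symm.trans
    ((congrArg (fun g : P => g.1.1 i j) h).trans (P_mul_apply _ _ i j))
  have k01 := k 0 1; have k02 := k 0 2; have k03 := k 0 3; have k11 := k 1 1; have k12 := k 1 2
  have k13 := k 1 3; have k21 := k 2 1; have k22 := k 2 2; have k23 := k 2 3; have k32 := k 3 2
  have k33 := k 3 3
  simp only [un_val, a0, a1, a2, a3, Matrix.of_apply, Matrix.cons_val', Matrix.cons_val, Matrix.cons_val_zero,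
    Matrix.cons_val_one, Matrix.cons_val_fin_one] at k01 k02 k03 k11 k12 k13 k21 k22 k23 k32 k33
  refine ⟨⟨?_, ?_, ?_⟩, ⟨?_, ?_, ?_⟩, ⟨?_, ?_, ?_⟩, ?_, ?_⟩
  · linear_combination k01
  · linear_combination k02
  · linear_combination k03
  · linear_combination k11
  · linear_combination k12
  · linear_combination k13
  · linear_combination k21
  · linear_combination k22
  · linear_combination k23
  · linear_combination k32
  · linear_combination k33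

variable {G : Type*} [Group G] [Finite G]

theorem le_of_class2 {E R : Subgroup G} (hRE : R ≤ E) (hR : IsPGroup 3 R)
    (hc : ∀ x ∈ R, ∀ y ∈ R, ∀ w ∈ R, ⁅x, y⁆ * w = w * ⁅x, y⁆) (h : ∀ g ∈ E, g ∈ normalizer (R : Set G) → g ∈ R)
    (hsig : ∀ K : Subgroup G, (Nat.card K).Coprime 3 → R ≤ normalizer (K : Set G) → K = ⊥) : E ≤ R := by
  have : Fact (Nat.Prime 3) := ⟨Nat.prime_three⟩
  obtain ⟨S, hS⟩ := OR.exists_sylow_of_norm hRE hR fun g h1 h2 _ _ => h g h1 h2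
  have hN : normalizer ((S : Subgroup E) : Set E) = S := le_antisymm (fun x hx => by
    rw [hS] at hx ⊢
    exact h x x.2 (mem_normalizer_fintype fun y hy => (mem_normalizer_iff.1 hx ⟨y, hRE hy⟩).1 hy)) le_normalizer
  have h0 := S4226.result S (by
    change ⁅⁅(S : Subgroup E), (S : Subgroup E)⁆, (S : Subgroup E)⁆ = ⊥
    rw [commutator_eq_bot_iff_le_centralizer, commutator_le, hS]
    exact fun x hx y hy w hw => Subtype.ext (hc x hx y hy w hw).symm)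
  rw [hN, pResidualOf, H3.pResidual_eq_bot_of_isPGroup S.isPGroup', Subgroup.map_bot, inf_comm] at h0
  have h2 := H3.hasNormalPComplement_iff_coprime.1 ((H3.hasNormalPComplement_iff_inf_eq_bot S).2 h0.symm)
  have h3 := hsig _ (H22.coprime_card_map E.subtype h2) (hRE.trans (OR.mem_normalizer_map _))
  rw [map_eq_bot_iff_of_injective _ E.subtype_injective] at h3
  intro g hg
  obtain ⟨u, hu, w, hw, e⟩ := H3.exists_mul_pResidual S ⟨g, hg⟩
  rw [h3, mem_bot] at hw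
  rw [hw, mul_one] at e
  have h4 : u ∈ (S : Subgroup E) := hu
  rw [← e, hS] at h4
  exact h4

theorem syl_le {U T : Subgroup G} (hU : IsPGroup 3 U) {z y : G} (hz : ∀ u ∈ U, u * z = z * u) (hc : IsConj z y)
    (hT : T ≤ U) (hy : T ≤ centralizer {y})
    (h : ∀ g ∈ centralizer {y}, g ∈ normalizer (T : Set G) → ∀ k, g ^ 3 ^ k = 1 → g ∈ T) : U ≤ T := by
  have : Fact (Nat.Prime 3) := ⟨Nat.prime_three⟩
  obtain ⟨S, hS⟩ := OR.exists_sylow_of_norm hy (hU.to_le hT) h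
  obtain ⟨g, rfl⟩ := isConj_iff.1 hc
  have h1 : U.map (MulAut.conj g).toMonoidHom ≤ centralizer {g * z * g⁻¹} := by
    rintro _ ⟨u, hu, rfl⟩
    rw [mem_centralizer_singleton_iff]
    change g * u * g⁻¹ * _ = _ * (g * u * g⁻¹)
    rw [conj_mul, conj_mul, hz u hu]
  obtain ⟨S', h2⟩ := ((hU.map (MulAut.conj g).toMonoidHom).comap_subtype
    (K := centralizer {g * z * g⁻¹})).exists_le_sylow
  have h3 := card_le_of_le h2
  rw [S'.card_eq_multiplicity, ← S.card_eq_multiplicity, hS, Nat.card_congr (subgroupOfEquivOfLe hy).toEquiv,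
    ← subgroupOf, Nat.card_congr (subgroupOfEquivOfLe h1).toEquiv, card_map_of_injective (MulAut.conj g).injective] at h3
  exact (eq_of_le_of_card_ge hT h3).ge

end Cfsg.Agent.L43
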