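import Cfsg.Agent.L43.Com
import Cfsg.Agent.L43.GlA
import Cfsg.Agent.L4Q.Ident

/-! Amalgamation of the two parabolic subgroups. -/

set_option autoImplicit false
set_option synthInstance.maxSize 4096
set_option maxRecDepth 100000

namespace Cfsg.Agent.L43

open Subgroup H38 H39 L4Q

variable {G : Type*} [Group G] [Finite G] {φ₁ φ₂ : P →* G}

/-- two models with the same `z` -/
structure Pr (φ₁ φ₂ : P →* G) : Prop where
  h₁ : Md φ₁
  h₂ : Md φ₂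
  z : φ₂ z0 = φ₁ z0
  x : ∃ c e f, φ₂ (un 0 1 0 0 0 0) = φ₁ (un 0 0 c 0 e f)

omit [Finite G] in
theorem Pr.conj (h : Pr φ₁ φ₂) {n : P} (hn : n * z0 = z0 * n) :
    Pr φ₁ ((MulAut.conj (φ₁ n)).toMonoidHom.comp φ₂) := by
  obtain ⟨c, e, f, k⟩ := h.x
  obtain ⟨c', e', f', k'⟩ := gl_M0 hn c e f
  exact ⟨h.h₁, h.h₂.conj _, (congrArg (fun g => φ₁ n * g * (φ₁ n)⁻¹) h.z).trans (cj_of_mul hn), c', e', f',
    (congrArg (fun g => φ₁ n * g * (φ₁ n)⁻¹) k).trans (cj_of_mul k')⟩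

omit [Finite G] in
theorem Pr.pull (h : Pr φ₁ φ₂) {m : P} {k : F} (hm : m * z0 = un 0 0 k 0 0 0 * m) :
    ∃ m', φ₂ m = φ₁ m' ∧ m' * z0 = un 0 0 k 0 0 0 * m' := by
  have e : φ₂ (un 0 0 k 0 0 0) = φ₁ (un 0 0 k 0 0 0) := by
    rw [(by decide +kernel : ∀ k : F, un 0 0 k 0 0 0 = z0 ^ k.val) k, map_pow, map_pow, h.z]
  have e1 := cj_of_mul (φ := φ₂) hm
  rw [h.z, e] at e1
  obtain ⟨m', e2⟩ := h.h₁.nz (φ₂ m) (Md.mem_z.2 ⟨k, e1⟩)
  exact ⟨m', e2.symm, h.h₁.mul_of_cj (e2 ▸ e1)⟩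

omit [Finite G] in
theorem Pr.norm (h : Pr φ₁ φ₂) : ∃ φ, Pr φ₁ φ ∧ φ t0 = φ₁ t0 ∧ φ t1 = φ₁ t1 := by
  obtain ⟨m, e, hm⟩ := h.pull (m := t0) (k := 1) (by decide +kernel)
  obtain ⟨n, n1, n2⟩ := gl_M1 hm (h.h₁.inj (by
    rw [map_mul, ← e, ← map_mul, (by decide +kernel : t0 * t0 = 1), map_one, map_one])) fun k =>
      absurd (h.h₂.inj (by rw [e, k, map_one, map_one] : φ₂ t0 = φ₂ 1)) (by decide +kernel)
  obtain ⟨φ, h', e'⟩ : ∃ φ, Pr φ₁ φ ∧ φ t0 = φ₁ t0 :=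
    ⟨_, h.conj n1, (congrArg (fun g => φ₁ n * g * (φ₁ n)⁻¹) e).trans (cj_of_mul n2)⟩
  obtain ⟨m, e, hm⟩ := h'.pull (m := t1) (k := -1) (by decide +kernel)
  obtain ⟨n, n1, n2, n3⟩ := gl_M2 hm (h.h₁.inj (by
    rw [map_mul, ← e, ← map_mul, (by decide +kernel : t1 * t1 = 1), map_one, map_one])) (h.h₁.inj (by
    rw [map_mul, map_mul, ← e, ← e', ← map_mul, ← map_mul, (by decide +kernel : t1 * t0 = t0 * t1)]))
  exact ⟨_, h'.conj n1, (congrArg (fun g => φ₁ n * g * (φ₁ n)⁻¹) e').trans (cj_of_mul n2),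
    (congrArg (fun g => φ₁ n * g * (φ₁ n)⁻¹) e).trans (cj_of_mul n3)⟩

theorem Pr.roots (h : Pr φ₁ φ₂) (e0 : φ₂ t0 = φ₁ t0) (e1 : φ₂ t1 = φ₁ t1) : ∃ f d a : F, f * f = 1 ∧ d * d = 1 ∧
    a * a = 1 ∧ φ₂ (un 1 0 0 0 0 0) = φ₁ (un 0 0 0 0 0 f) ∧ φ₂ (un 0 0 0 1 0 0) = φ₁ (un 0 0 0 d 0 0) ∧
    φ₂ (un 0 0 0 0 0 1) = φ₁ (un a 0 0 0 0 0) ∧ φ₂ (lo 0 1) = φ₁ (lo 0 d) := by
  have e2 : φ₂ t2 = φ₁ t2 := by rw [(by decide +kernel : t2 = t0 * t1), map_mul, map_mul, e0, e1]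
  have mul : ∀ {a a' b b'}, φ₂ a = φ₁ a' → φ₂ b = φ₁ b' → φ₂ (a * b) = φ₁ (a' * b') := fun k k' => by
    rw [map_mul, map_mul, k, k']
  have one : φ₂ 1 = φ₁ 1 := by rw [map_one, map_one]
  have eq : ∀ {a a' b b'}, φ₂ a = φ₁ a' → φ₂ b = φ₁ b' → (a = b ↔ a' = b') := fun k k' => by
    rw [← h.h₂.inj.eq_iff, k, k', h.h₁.inj.eq_iff]
  have sq : ∀ a : F, a ≠ 0 → a * a = 1 := by decide
  have q : ∀ m, m * z0 = z0 * m → t0 * m * t0 * m = 1 → m * m * m = 1 → ∃ a b c e f, φ₂ m = φ₁ (un a b c 0 e f) :=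
    fun m k1 k2 k3 => by
      obtain ⟨m', e, k⟩ := h.pull (k := 1) k1
      obtain ⟨a, b, c, e', f, rfl⟩ := gl_M3 k ((eq (mul (mul (mul e0 e) e0) e) one).1 k2)
        ((eq (mul (mul e e) e) one).1 k3)
      exact ⟨a, b, c, e', f, e⟩
  have l : ∀ m, m * z0 = z0 * m → m * t0 = t0 * m → t1 * m * t1 * m = 1 → m * m * m = 1 →
      ∃ c d, φ₂ m = φ₁ (un 0 0 c d 0 0) ∨ φ₂ m = φ₁ (lo c d) := fun m k1 k2 k3 k4 => by
    obtain ⟨m', e, k⟩ := h.pull (k := 1) k1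
    obtain ⟨c, d, rfl | rfl⟩ := gl_M4 k ((eq (mul e e0) (mul e0 e)).1 k2) ((eq (mul (mul (mul e1 e) e1) e) one).1 k3)
      ((eq (mul (mul e e) e) one).1 k4)
    exacts [⟨c, d, Or.inl e⟩, ⟨c, d, Or.inr e⟩]
  obtain ⟨c₃, e₃, f₃, x13⟩ := h.x
  obtain ⟨-, rfl, rfl⟩ := gl_M32 ((eq (mul x13 e2) (mul e2 x13)).1 (by decide +kernel))
  have n3 : e₃ ≠ 0 := fun k => absurd ((eq x13 one).2 (by rw [k, un_zero])) (by decide)
  obtain ⟨a₁, b₁, c₁, e₁, f₁, x12⟩ := q (un 1 0 0 0 0 0) (by decide +kernel) (by decide +kernel) (by decide +kernel)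
  obtain ⟨rfl, rfl, rfl⟩ := gl_M31 ((eq (mul x12 e1) (mul e1 x12)).1 (by decide +kernel))
  obtain ⟨a₂, b₂, c₂, e₂, f₂, x34⟩ := q (un 0 0 0 0 0 1) (by decide +kernel) (by decide +kernel) (by decide +kernel)
  obtain ⟨rfl, rfl, rfl⟩ := gl_M31 ((eq (mul x34 e1) (mul e1 x34)).1 (by decide +kernel))
  obtain ⟨a₄, b₄, c₄, e₄, f₄, x24⟩ := q (un 0 0 0 0 1 0) (by decide +kernel) (by decide +kernel) (by decide +kernel)
  obtain ⟨rfl, rfl, rfl⟩ := gl_M32 ((eq (mul x24 e2) (mul e2 x24)).1 (by decide +kernel))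
  have r1 := (eq (mul x12 x13) (mul x13 x12)).1 (by decide +kernel)
  simp only [un_mul, un_inj] at r1
  obtain rfl : a₁ = 0 := (mul_eq_zero.1 (by linear_combination r1.2.2.1)).resolve_right n3
  have n1 : f₁ ≠ 0 := fun k => absurd ((eq x12 one).2 (by rw [k, un_zero])) (by decide)
  obtain ⟨c₅, d₅, x23 | x23⟩ := l (un 0 0 0 1 0 0) (by decide +kernel) (by decide +kernel) (by decide +kernel)
    (by decide +kernel)
  swap
  · have r2 := (eq (mul x12 x23) (mul (mul x23 x12) x13)).1 (by decide +kernel)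
    simp only [un_nz, lo, nz_mul, nz_inj] at r2
    exact absurd (by linear_combination -r2.2.2.2.2.2.1) n3
  have r2 := (eq (mul x12 x23) (mul (mul x23 x12) x13)).1 (by decide +kernel)
  have r3 := (eq (mul x23 x34) (mul (mul x34 x23) x24)).1 (by decide +kernel)
  have r4 := (eq (mul x13 x34) (mul x34 x13)).not.1 (by decide +kernel)
  simp only [un_mul, un_inj] at r2 r3 r4
  have n5 : d₅ ≠ 0 := fun k => n3 (by rw [k] at r2; linear_combination -r2.2.2.2.2.1)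
  have n2 : a₂ ≠ 0 := fun k => r4 (by simp [k])
  obtain rfl : e₄ = 0 := (mul_eq_zero.1 (by linear_combination -r3.2.2.1)).resolve_left n2
  obtain rfl : f₂ = 0 := (mul_eq_zero.1 (by linear_combination r3.2.2.2.2.1)).resolve_left n5
  have c24 : IsConj (φ₁ z0) (φ₂ (un 0 0 0 0 1 0)) := by
    obtain ⟨m, hm⟩ := ca_tr (a := 0) (b := b₄) (c := 0) fun k =>
      absurd ((eq x24 one).2 (by rw [k.2.1, un_zero])) (by decide)
    exact x24 ▸ (isConj_of_mul hm).symm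
  have c23 : IsConj (φ₁ z0) (φ₂ (un 0 0 0 1 0 0)) := c24.trans (isConj_of_mul
    (m := xx 1 2 1 * xx 2 1 (-1) * xx 1 2 1) (by decide +kernel))
  obtain rfl : c₅ = 0 := by_contra fun k => h.h₁.nsg (b := 0) (e := 0)
    (by simpa using ⟨k, n5⟩) (x23 ▸ c23)
  obtain ⟨c₆, d₆, x32 | x32⟩ := l (lo 0 1) (by decide +kernel) (by decide +kernel) (by decide +kernel)
    (by decide +kernel)
  · exact absurd ((eq (mul x23 x32) (mul x32 x23)).2 (by simp [un_mul, add_comm])) (by decide +kernel)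
  have r5 := (eq (mul x23 x32) (mul x32 x23)).not.1 (by decide +kernel)
  have r6 := (eq (mul (mul (mul x23 x32) (mul x23 x32)) (mul (mul x23 x32) (mul x23 x32))) one).1 (by decide +kernel)
  simp only [un_nz, lo, nz_mul, nz_inj, one_nz] at r5 r6
  have n6 : d₆ ≠ 0 := fun k => r5 (by simp [k])
  have w : ∀ c d, (xx 0 1 1 * xx 1 0 (-1) * xx 0 1 1) * lo c d = un 0 0 c (-d) 0 0 * (xx 0 1 1 * xx 1 0 (-1) * xx 0 1 1) := by
    decide +kernel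
  have c32 : IsConj (φ₁ z0) (φ₂ (lo 0 1)) := (c23.trans (isConj_of_mul (m := t1) (y := un 0 0 0 (-1) 0 0)
    (by decide +kernel))).trans (isConj_of_mul (w 0 1)).symm
  obtain rfl : c₆ = 0 := by_contra fun k => h.h₁.nsg (b := 0) (c := c₆) (d := -d₆) (e := 0)
    (by simpa using ⟨k, n6⟩) ((x32 ▸ c32).trans (isConj_of_mul (w c₆ d₆)))
  obtain rfl : d₆ = d₅ := by
    have := r6.2.2.2.2.1
    clear * - this n5 n6
    revert d₅ d₆; decide
  exact ⟨f₁, d₆, a₂, sq _ n1, sq _ n6, sq _ n2, x12, x23, x34, x32⟩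

theorem Pr.exists_nm (h : Pr φ₁ φ₂) : ∃ φ : P →* G, Md φ ∧ φ t1 = φ₁ t1 ∧ ∀ s, φ (un s 0 0 0 0 0) = φ₁ (xx 1 2 s) ∧
    φ (xx 0 1 s) = φ₁ (xx 0 1 s) ∧ φ (xx 1 2 s) = φ₁ (un s 0 0 0 0 0) ∧ φ (xx 1 0 s) = φ₁ (xx 1 0 s) := by
  obtain ⟨φ, h', e0, e1⟩ := h.norm
  obtain ⟨f, d, a, ff, dd, aa, x12, x23, x34, x32⟩ := h'.roots e0 e1
  have pw : ∀ {m m' : P} (s : F), φ m = φ₁ m' → φ (m ^ s.val) = φ₁ (m' ^ s.val) := fun s e => by
    rw [map_pow, map_pow, e]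
  refine ⟨φ.comp (twP f (f * d) (f * d * a) ⟨ff, by linear_combination (d * d) * ff + dd,
    by linear_combination (d * d * a * a) * ff + (a * a) * dd + aa⟩), h'.h₂.tw _ _ _ _,
    (congrArg φ (twP_dg _ _ _ _ _ _ _)).trans e1, fun s => ?_⟩
  simp only [MonoidHom.comp_apply, xx01, xx12, xx10, twP_un, twP_lo, mul_zero]
  refine ⟨?_, ?_, ?_, ?_⟩
  · convert pw (f * s) x12 using 2 <;> (clear * - ff; revert f s; decide +kernel)
  · convert pw (d * s) x23 using 2 <;> (clear * - ff dd; revert f d s; decide +kernel)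
  · convert pw (a * s) x34 using 2 <;> (clear * - ff dd aa; revert f d a s; decide +kernel)
  · convert pw (d * s) x32 using 2 <;> (clear * - ff dd; revert f d s; decide +kernel)

/-- notes/L43.md, section Glue -/
theorem exists_lb (h₁ : Md φ₁) (h₂ : Md φ₂) (hz : φ₂ z0 = φ₁ z0)
    (hx : φ₂ (un 0 1 0 0 0 0) = φ₁ (un 0 0 0 0 1 0)) : ∃ f : S4 →* G, Lb f := by
  obtain ⟨φ, h, e1, e⟩ := Pr.exists_nm ⟨h₁, h₂, hz, 0, 1, 0, hx⟩
  have com : ∀ {x y w x' y' w' : P}, φ x = φ₁ x' → φ y = φ₁ y' → y * x = x * y * w → y' * x' = x' * y' * w' →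
      φ w = φ₁ w' := fun {x y w x' y' w'} hx hy k k' => mul_left_cancel (a := φ x * φ y) (by
    rw [← map_mul, ← map_mul, ← k, map_mul, map_mul, hx, hy, ← map_mul φ₁, ← map_mul φ₁, ← map_mul φ₁, k'])
  have j1 : ∀ s, φ (un 0 s 0 0 0 0) = φ₁ (un 0 0 0 0 (-s) 0) := fun s =>
    com (e 1).2.1 (e s).1 (by revert s; decide +kernel) (by revert s; decide +kernel)
  have j2 : ∀ s, φ (un 0 0 0 0 s 0) = φ₁ (un 0 (-s) 0 0 0 0) := fun s =>
    com (e s).2.2.1 (e 1).2.1 (by revert s; decide +kernel) (by revert s; decide +kernel)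
  have j3 : ∀ s, φ (un 0 0 s 0 0 0) = φ₁ (un 0 0 s 0 0 0) := fun s =>
    com (j2 s) (e 1).1 (by revert s; decide +kernel) (by revert s; decide +kernel)
  have j : ∀ b c d e', φ₁ (un 0 b c d e' 0) = φ (un 0 (-e') c d (-b) 0) := fun b c d e' => by
    have k : ∀ b c d e' : F, un 0 b c d e' 0 = un 0 b 0 0 0 0 * un 0 0 c 0 0 0 * xx 0 1 d * un 0 0 0 0 e' 0 := by
      simp [xx01, un_mul]
    rw [k (-e'), map_mul, map_mul, map_mul, j1, j2, j3, (e d).2.1, ← map_mul, ← map_mul, ← map_mul]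
    simp [xx01, un_mul]
  have a0 : ∀ a b c d e', φ (xx 2 1 a) * φ₁ (un 0 b c d e' 0) = φ₁ (un 0 b c (d + a * b) (e' + a * c) 0) * φ (xx 2 1 a) :=
    fun a b c d e' => by
      rw [j, j, ← map_mul, ← map_mul, x43_J]
      congr 3 <;> ring
  have cm : ∀ a s, Commute (φ (xx 2 1 a)) (φ₁ (xx 2 1 s)) := fun a s => by
    obtain ⟨b, c, d, e', k⟩ := h₁.cenJ (g := (φ₁ (xx 2 1 s) * φ (xx 2 1 a))⁻¹ * (φ (xx 2 1 a) * φ₁ (xx 2 1 s)))
      fun b c d e' => by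
        rw [mul_assoc, inv_mul_eq_iff_eq_mul, mul_assoc, ← map_mul, x43_J, map_mul, ← mul_assoc, a0, ← mul_assoc,
          ← mul_assoc, mul_assoc (φ₁ (xx 2 1 s)), a0, ← mul_assoc (φ₁ (xx 2 1 s)), ← map_mul φ₁, x43_J, map_mul]
        simp only [mul_assoc, mul_inv_rev, mul_inv_cancel_left]
        congr 3; ring
    have c0 : ∀ a, Commute (xx 2 1 a) t1 := by unfold Commute SemiconjBy; decide +kernel
    have c1 : Commute (φ (xx 2 1 a)) (φ₁ t1) := e1 ▸ (c0 a).map φ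
    have c2 := (c0 s).map φ₁
    have := gl_J1 (h₁.mul_of_comm (k ▸ ((c2.mul_left c1).inv_left.mul_left (c1.mul_left c2)).eq))
    rw [this, map_one, inv_mul_eq_one] at k
    exact k.symm
  have p1 : ∀ a s, Commute (un a 0 0 0 0 0) (xx 1 2 s) ∧ Commute (un a 0 0 0 0 0) (xx 2 1 s) := by
    unfold Commute SemiconjBy; decide +kernel
  obtain ⟨f, hf⟩ := exists_sl_of_diag' (n := 3) (by omega) (F := F) (G := G)
    ⟨fun i s => ![φ₁ (un s 0 0 0 0 0), φ₁ (xx 0 1 s), φ₁ (xx 1 2 s)] i,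
      fun i s => ![φ (xx 2 1 s), φ₁ (xx 1 0 s), φ₁ (xx 2 1 s)] i, fun {i j} k k' s s' => by
      rw [clA_C'] at k'
      fin_cases i <;> fin_cases j <;> simp at k k'
      · exact ⟨(p1 _ _).1.map φ₁, (p1 _ _).2.map φ₁, cm _ _⟩
      · exact ⟨((p1 _ _).1.map φ₁).symm, (e s).1 ▸ (p1 _ _).2.map φ, (cm _ _).symm⟩, fun {i j} k => by
      rw [clA_C'] at k
      fin_cases i <;> fin_cases j <;> simp at k
      · exact ⟨(aP.map φ).flip, (A2.flip01 _).trans (funext fun s => (e s).2.2.1), A2.flip10 _,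
          (A2.flip12 _).trans (funext fun s => (e s).2.1), (A2.flip21 _).trans (funext fun s => (e s).2.2.2)⟩
      · exact ⟨aP.map φ, funext fun s => (e s).2.1, funext fun s => (e s).2.2.2, funext fun s => (e s).2.2.1, rfl⟩
      · exact ⟨aP.map φ₁, rfl, rfl, rfl, rfl⟩
      · exact ⟨(aP.map φ₁).flip, A2.flip01 _, A2.flip10 _, A2.flip12 _, A2.flip21 _⟩⟩
  have ef : f.comp P.subtype = φ₁ := MonoidHom.ext fun m => (P_eq_top (H := (f.comp P.subtype).eqLocus φ₁)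
    (fun s => (congrArg f (Subtype.ext (by
      change _ = 1 + Matrix.single (0 : Fin 4) (1 : Fin 4) s; revert s; decide +kernel))).trans (hf 0 s).1)
    (fun s => (hf 1 s).1) (fun s => (hf 1 s).2) (fun s => (hf 2 s).1) fun s => (hf 2 s).2).ge (mem_top m)
  have ef' : ∀ m : P, f m = φ₁ m := fun m => DFunLike.congr_fun ef m
  have hc : ∀ g ∈ center S4, f g = 1 := fun g hg => by
    have c : ∀ m : P, f g * φ₁ m = φ₁ m * f g := fun m => by rw [← ef', ← map_mul, ← map_mul, mem_center_iff.1 hg]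
    obtain ⟨m, hm⟩ := h₁.nz (f g) (by rw [c, mul_inv_cancel_right]; exact mem_zpowers _)
    obtain ⟨k, rfl⟩ := mem_zpowers_z0.1 (cent_Q0 (m := m) fun q _ => h₁.mul_of_comm (hm ▸ c q))
    rw [← hm, gl_J1 (h₁.mul_of_comm (hm ▸ c t1)), map_one]
  refine ⟨f, fun g => ?_, ef ▸ h₁⟩
  rw [← scal_iff, ← pr4_eq_one]
  refine ⟨fun hg => ?_, fun hg => hc g ((QuotientGroup.eq_one_iff g).1 hg)⟩
  have := S0249.result (F := F) 4 (by omega)
  rcases (QuotientGroup.lift _ f hc : P4 F →* G).normal_ker.eq_bot_or_eq_top with k | k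
  · exact mem_bot.1 (k ▸ show pr4 g ∈ (QuotientGroup.lift _ f hc : P4 F →* G).ker from hg)
  · have : f z0 = 1 := (k.ge (mem_top (pr4 (z0 : S4))) : _)
    exact absurd (h₁.inj ((ef' z0).symm.trans (this.trans φ₁.map_one.symm))) (by decide)

end Cfsg.Agent.L43
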