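import Cfsg.Agent.L43.Defs
import Mathlib.LinearAlgebra.BilinearForm.Properties
import Mathlib.LinearAlgebra.FiniteDimensional.Lemmas
import Mathlib.FieldTheory.Finiteness
import Mathlib.Tactic.NoncommRing
import Mathlib.Tactic.Module

/-! Linear algebra for the action of `SL₂(3)` on a four-dimensional symplectic space over `𝔽₃`. -/

set_option autoImplicit false
set_option synthInstance.maxSize 4096
set_option maxRecDepth 100000

namespace Cfsg.Agent.L43

open Module

theorem s2_cyc : ∀ g h : S2, g ≠ 1 → g * g * g = 1 → h * h * h = 1 → g * h * (g * h) * (g * h) = 1 →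
    g * (h * h) * (g * (h * h)) * (g * (h * h)) = 1 → h = 1 ∨ h = g ∨ h = g * g := by decide +kernel

theorem s2_core : ∀ g : S2, g ≠ 1 → g * g * g = 1 → ∃ k h : S2, k * g = h * k ∧ g * h * (g * h) * (g * h) ≠ 1 := by
  decide +kernel

theorem s2_neg : ∀ g : S2, g ≠ 1 → ∃ h : S2, (∃ k, k * g = h * k) ∧ ∃ h' : S2, (∃ k, k * g = h' * k) ∧
    g * h * h' = -1 := by
  decide +kernel

theorem s2_gen : ∀ g : S2, g ≠ 1 → g * g * g = 1 → ∃ h : S2, h * h * h = 1 ∧ g * h * g = h * g * h ∧
    g * h * g * (g * h * g) = -1 ∧ ∀ k : S2, ∃ i j l m : Fin 3, k = g ^ i.1 * h ^ j.1 * g ^ l.1 * h ^ m.1 := by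
  decide +kernel

theorem braid {R : Type*} [Ring R] (h3 : ∀ D : R, D = -D → D = 0) {N M : R} (hN : N * N = 0) (hM : M * M = 0)
    (hb : (1 + N) * (1 + M) * (1 + N) = (1 + M) * (1 + N) * (1 + M))
    (hs : (1 + N) * (1 + M) * (1 + N) * ((1 + N) * (1 + M) * (1 + N)) = -1) : N * M + M * N = -1 := by
  have key : ∀ r : R, N * r = 0 → M * r = 0 → r = 0 := fun r h1 h2 => h3 r (by
    have e : (1 + N) * (1 + M) * (1 + N) * r = r := by
      simp only [mul_assoc, add_mul, one_mul, h1, h2, add_zero]
    have := congrArg (· * r) hs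
    rwa [mul_assoc _ _ r, e, e, neg_one_mul] at this)
  have e : N + N * M * N = M + M * N * M := by
    have e1 : N + N * M * N - (M + M * N * M) =
      (1 + N) * (1 + M) * (1 + N) - (1 + M) * (1 + N) * (1 + M) - N * N + M * M := by noncomm_ring
    rw [hb, hN, hM] at e1
    exact sub_eq_zero.1 (by simpa using e1)
  have d : N + N * M * N = 0 := key _ (by simp only [mul_add, ← mul_assoc, hN, zero_mul, add_zero])
    (by rw [e]; simp only [mul_add, ← mul_assoc, hM, zero_mul, add_zero])
  refine eq_neg_of_add_eq_zero_left (key _ ?_ ?_)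
  · simp only [mul_add, ← mul_assoc, hN, zero_mul, zero_add, mul_one]
    rw [add_comm, d]
  · simp only [mul_add, ← mul_assoc, hM, zero_mul, add_zero, mul_one]
    rw [add_comm, ← e, d]

variable {V : Type*} [AddCommGroup V] [Module F V]

theorem eq_zero_of_neg {v : V} (h : v = -v) : v = 0 := by
  have e : (2 : F) • v = 0 := by rw [two_smul]; exact add_eq_zero_iff_eq_neg.2 h
  exact (smul_eq_zero.1 e).resolve_left (by decide)

theorem cube (X : End F V) (h : X * X * X = 1) : (X - 1) * (X - 1) * (X - 1) = 0 := by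
  have e : (X - 1) * (X - 1) * (X - 1) = X * X * X - 1 + (3 : ℕ) • (X - X * X) := by noncomm_ring
  rw [e, h, sub_self, zero_add, ← Nat.cast_smul_eq_nsmul F, show ((3 : ℕ) : F) = 0 from rfl, zero_smul]

/-- unipotent elements of order three of `Sp₄(3)` are quadratic -/
theorem quad [FiniteDimensional F V] (h4 : finrank F V = 4) {B : LinearMap.BilinForm F V} (alt : B.IsAlt)
    (nd : ∀ v, (∀ w, B v w = 0) → v = 0) {N : End F V} (hB : ∀ u v, B (u + N u) (v + N v) = B u v)
    (h3 : N * N * N = 0) : N * N = 0 := by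
  have n3 : ∀ v, N (N (N v)) = 0 := fun v => LinearMap.congr_fun h3 v
  have ad : ∀ u v, B (N u) v = - B u (N v) - B (N u) (N v) := fun u v => by
    have := hB u v
    simp only [map_add, LinearMap.add_apply] at this
    linear_combination this
  have a1 : ∀ u v, B (N u) (N (N v)) = 0 := fun u v => by rw [ad, n3]; simp
  have a2 : ∀ u v, B (N u) (N v) = - B u (N (N v)) := fun u v => by rw [ad u (N v), a1]; simp
  have a3 : ∀ u v, B (N (N u)) v = B u (N (N v)) := fun u v => by
    rw [ad, a2, a2, a1]; simp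
  have rk : finrank F (LinearMap.range (N * N)) ≤ 1 := by
    have e1 := N.finrank_range_add_finrank_ker
    have e2 := (N.domRestrict (LinearMap.range N)).finrank_range_add_finrank_ker
    have e3 : LinearMap.range (N.domRestrict (LinearMap.range N)) = LinearMap.range (N * N) := by
      rw [LinearMap.range_domRestrict, End.mul_eq_comp, LinearMap.range_comp]
    have e4 : finrank F (LinearMap.range (N * N)) ≤ finrank F (LinearMap.ker N) :=
      Submodule.finrank_mono (by rintro _ ⟨v, rfl⟩; exact n3 v)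
    have e5 : finrank F (LinearMap.range (N * N)) ≤
        finrank F (LinearMap.ker (N.domRestrict (LinearMap.range N))) := by
      rw [← Submodule.finrank_map_subtype_eq]
      exact Submodule.finrank_mono (by rintro _ ⟨v, rfl⟩; exact ⟨⟨_, N v, rfl⟩, n3 v, rfl⟩)
    rw [e3] at e2
    omega
  ext v
  refine nd _ fun w => by_contra fun hw => ?_
  have z : ∀ u, B (N (N u)) u = 0 := fun u => eq_zero_of_neg (by rw [alt.neg_eq, a3])
  obtain ⟨c, hc⟩ := (finrank_le_one_iff.1 rk)
  obtain ⟨a, ha⟩ := hc ⟨_, v, rfl⟩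
  obtain ⟨b, hb⟩ := hc ⟨_, w, rfl⟩
  replace ha : a • (c : V) = N (N v) := congrArg Subtype.val ha
  replace hb : b • (c : V) = N (N w) := congrArg Subtype.val hb
  have z1 := z v
  have z2 := z w
  have z3 := a3 v w
  change B (N (N v)) w ≠ 0 at hw
  rw [← ha, map_smul, LinearMap.smul_apply, smul_eq_mul] at z1 hw z3
  rw [← hb, map_smul, LinearMap.smul_apply, smul_eq_mul] at z2
  rw [← hb, map_smul, smul_eq_mul] at z3
  rcases mul_eq_zero.1 z2 with e | e
  · rw [e, zero_mul] at z3; exact hw z3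
  · rw [e, mul_zero] at hw; exact hw rfl

theorem skew {B : LinearMap.BilinForm F V} {N : End F V} (hB : ∀ u v, B (u + N u) (v + N v) = B u v)
    (h2 : N * N = 0) (u v : V) : B (N u) v = - B u (N v) := by
  have n2 : ∀ v, N (N v) = 0 := fun v => LinearMap.congr_fun h2 v
  have e1 := hB u v
  have e2 := hB u (N v)
  simp only [map_add, LinearMap.add_apply, n2, add_zero] at e1 e2
  linear_combination e1 - e2

/-- the orthogonal complement of a vector is not totally isotropic -/
theorem exists_perp [Finite V] (hc : 9 < Nat.card V) {B : LinearMap.BilinForm F V} (alt : B.IsAlt)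
    (nd : ∀ v, (∀ w, B v w = 0) → v = 0) {w : V} (hw : w ≠ 0) :
    ∃ a b, B a w = 0 ∧ B b w = 0 ∧ B a b ≠ 0 := by
  obtain ⟨u, hu⟩ : ∃ u, B w u = 1 := by
    obtain ⟨u, hu⟩ : ∃ u, B w u ≠ 0 := by_contra fun h => hw (nd w fun u => by_contra fun k => h ⟨u, k⟩)
    exact ⟨(B w u)⁻¹ • u, by rw [map_smul, smul_eq_mul, inv_mul_cancel₀ hu]⟩
  have hu' : B u w = -1 := by rw [← alt.neg_eq, hu]
  obtain ⟨v, hv⟩ : ∃ v, v + B v w • u - B v u • w ≠ 0 := by
    by_contra! h
    have := Nat.card_le_card_of_surjective (fun q : F × F => q.1 • u + q.2 • w) fun v =>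
      ⟨(-B v w, B v u), by
        show (-B v w) • u + B v u • w = v
        rw [← sub_eq_zero, ← neg_eq_zero, ← h v]; module⟩
    simp at this
    omega
  obtain ⟨x, hx⟩ : ∃ x, B (v + B v w • u - B v u • w) x ≠ 0 :=
    by_contra fun h => hv (nd _ fun u => by_contra fun k => h ⟨u, k⟩)
  have p1 : ∀ v, B (v + B v w • u - B v u • w) w = 0 := fun v => by
    simp [hu', alt.self_eq_zero]
  have p2 : ∀ v, B (v + B v w • u - B v u • w) u = 0 := fun v => by
    simp [hu, alt.self_eq_zero]
  refine ⟨_, _, p1 v, p1 x, ?_⟩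
  rwa [map_sub, map_add, map_smul, map_smul, p1, p2, smul_zero, smul_zero, add_zero, sub_zero]

end Cfsg.Agent.L43
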