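import Cfsg.Agent.L43.Lin
import Cfsg.Agent.H3.Extraspecial2

/-! The symplectic space `Q / Z` and first consequences of `Hy`. -/

set_option autoImplicit false

namespace Cfsg.Agent.L43

open Subgroup Module

universe u

variable {G : Type u} [Group G] {z : G} {C Q : Subgroup G} {π : C →* S2}

theorem mem_zp3 {z g : G} (oz : orderOf z = 3) : g ∈ zpowers z ↔ ∃ k : F, g = z ^ k.val := by
  refine ⟨fun h => ?_, fun ⟨k, e⟩ => e ▸ pow_mem (mem_zpowers z) _⟩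
  obtain ⟨n, rfl⟩ := mem_zpowers_iff.1 h
  refine ⟨n, ?_⟩
  rw [← zpow_natCast, ZMod.val_intCast, ← oz, zpow_mod_orderOf]

theorem pow_val_add {z : G} (z3 : z ^ 3 = 1) (a b : F) : z ^ (a + b).val = z ^ a.val * z ^ b.val := by
  rw [← pow_add, ZMod.val_add, ← pow_eq_pow_mod _ z3]

theorem pow_val_eq_one {z : G} (oz : orderOf z = 3) {a : F} : z ^ a.val = 1 ↔ a = 0 := by
  rw [← orderOf_dvd_iff_pow_eq_one, oz, ← ZMod.natCast_eq_zero_iff, ZMod.natCast_zmod_val]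

theorem pow_val_neg {z : G} (z3 : z ^ 3 = 1) (a : F) : z ^ (-a).val = (z ^ a.val)⁻¹ := by
  rw [eq_inv_iff_mul_eq_one, ← pow_val_add z3, neg_add_cancel, ZMod.val_zero, pow_zero]

theorem pow_val_inj {z : G} (oz : orderOf z = 3) {a b : F} (h : z ^ a.val = z ^ b.val) : a = b := by
  have z3 : z ^ 3 = 1 := oz ▸ pow_orderOf_eq_one z
  rw [← sub_eq_zero, ← pow_val_eq_one oz, sub_eq_add_neg, pow_val_add z3, pow_val_neg z3, h, mul_inv_cancel]

/-- coordinates of `Q / Z` -/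
structure Vd (z : G) (Q : Subgroup G) {V : Type u} [AddCommGroup V] [Module F V] (p : G → V)
    (B : LinearMap.BilinForm F V) (R : G → End F V) : Prop where
  mul : ∀ a ∈ Q, ∀ b ∈ Q, p (a * b) = p a + p b
  sur : ∀ v, ∃ a ∈ Q, p a = v
  zero : ∀ a ∈ Q, p a = 0 ↔ a ∈ zpowers z
  comm : ∀ a ∈ Q, ∀ b ∈ Q, a * b * a⁻¹ * b⁻¹ = z ^ (B (p a) (p b)).val
  act : ∀ g ∈ normalizer (Q : Set G), ∀ a ∈ Q, R g (p a) = p (g * a * g⁻¹)
  card : Nat.card V = 81
  alt : B.IsAlt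
  nd : ∀ v, (∀ w, B v w = 0) → v = 0

namespace Hy

variable (h : Hy z C Q π)
include h

theorem z3 : z ^ 3 = 1 := h.exp z h.zQ

theorem zc {a : G} (ha : a ∈ Q) : a * z = z * a := (h.memC a).1 (h.QC ha)

theorem zle : zpowers z ≤ Q := zpowers_le.2 h.zQ

theorem CN : C ≤ normalizer (Q : Set G) := fun c hc => by
  have key : ∀ c ∈ C, ∀ a ∈ Q, c * a * c⁻¹ ∈ Q := fun c hc a ha =>
    (h.ker (⟨c, hc⟩ * ⟨a, h.QC ha⟩ * ⟨c, hc⟩⁻¹)).1 (by
      rw [map_mul, map_mul, (h.ker ⟨a, h.QC ha⟩).2 ha, map_inv, mul_one, mul_inv_cancel])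
  exact mem_normalizer_iff.2 fun a => ⟨key c hc a, fun k => by simpa [mul_assoc] using key _ (inv_mem hc) _ k⟩

theorem norm_z {g : G} (hg : g ∈ normalizer (Q : Set G)) : g * z * g⁻¹ ∈ zpowers z := h.cen _ fun a ha => by
  have := h.zc ((mem_normalizer_iff.1 (inv_mem hg) a).1 ha)
  calc g * z * g⁻¹ * a = g * (z * (g⁻¹ * a * g⁻¹⁻¹)) * g⁻¹ := by group
    _ = _ := by rw [← this]; group

theorem exists_vd : ∃ (V : Type u) (_ : AddCommGroup V) (_ : Module F V) (p : G → V) (B : LinearMap.BilinForm F V)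
    (R : G → End F V), Vd z Q p B R := by
  classical
  have : Fact (Nat.Prime 3) := ⟨Nat.prime_three⟩
  have mz : ∀ a : Q, a ∈ zpowers (⟨z, h.zQ⟩ : Q) ↔ a.1 ∈ zpowers z := fun a => by
    simp only [mem_zpowers_iff, Subtype.ext_iff, coe_zpow]
  obtain ⟨V, _, _, D, h1, h2⟩ := H3.exists_esData (p := 3) (⟨z, h.zQ⟩ : Q)
    (mem_center_iff.2 fun a => Subtype.ext (h.zc a.2)) (by rw [orderOf_mk, h.oz])
    (by rw [commutator_def, commutator_le]; exact fun a _ b _ => (mz _).2 (h.comm a a.2 b b.2))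
    fun a => (mz _).2 (by rw [coe_pow, h.exp a a.2]; exact one_mem _)
  let p : G → V := fun g => if k : g ∈ Q then D.π ⟨g, k⟩ else 0
  have hp : ∀ a : Q, p a = D.π a := fun a => dif_pos a.2
  have ex : ∀ g ∈ normalizer (Q : Set G), ∃ R : End F V, ∀ a ∈ Q, R (p a) = p (g * a * g⁻¹) := fun g hg => by
    let f : Q →* Multiplicative V := D.πHom.comp (Q.normalizerMonoidHom ⟨g, hg⟩).toMonoidHom
    let f' := D.πHom.liftOfRightInverse _ (Function.rightInverse_surjInv D.πHom_surjective) ⟨f, fun a ha => by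
      obtain ⟨n, hn⟩ := mem_zpowers_iff.1 ((mz a).1 ((h2 a).1 ha))
      exact (h2 _).2 ((mz _).2 (by
        show g * a * g⁻¹ ∈ _
        rw [← hn, ← conj_zpow]
        exact zpow_mem (h.norm_z hg) n))⟩
    let f'' : V →+ V := MonoidHom.toAdditive f'
    refine ⟨f''.toZModLinearMap 3, fun a ha => ?_⟩
    rw [hp ⟨a, ha⟩, hp ⟨_, (mem_normalizer_iff.1 hg a).1 ha⟩]
    exact congrArg Multiplicative.toAdd (D.πHom.liftOfRightInverse_comp_apply _ _ _ ⟨a, ha⟩)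
  choose! R hR using ex
  refine ⟨V, _, _, p, D.B, R, fun a ha b hb => ?_, fun v => ?_, fun a ha => ?_, fun a ha b hb => ?_, hR, ?_,
    D.isAlt, fun v hv => ?_⟩
  · rw [hp ⟨a, ha⟩, hp ⟨b, hb⟩, ← D.π_mul, ← hp]; rfl
  · obtain ⟨a, e⟩ := D.π_surj v
    exact ⟨a, a.2, (hp a).trans e⟩
  · rw [hp ⟨a, ha⟩, h2, mz]
  · have e := congrArg Subtype.val (D.comm_eq ⟨a, ha⟩ ⟨b, hb⟩)
    rw [← ZMod.natCast_zmod_val (D.B _ _), ← nsmul_one, D.ζ_nsmul, h1] at e
    rw [hp ⟨a, ha⟩, hp ⟨b, hb⟩]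
    exact e
  · have e := D.card_eq
    rw [h.card] at e
    omega
  · obtain ⟨a, rfl⟩ := D.π_surj v
    exact (h2 a).2 ((mz a).2 (h.cen _ fun b hb => congrArg Subtype.val
      ((D.commute_iff a ⟨b, hb⟩).2 (hv _)).eq))

theorem conj (g : G) : ∃ (C' Q' : Subgroup G) (π' : C' →* S2), Hy (g * z * g⁻¹) C' Q' π' ∧
    ∀ a, a ∈ Q' ↔ g⁻¹ * a * g ∈ Q := by
  let e : G →* G := (MulAut.conj g⁻¹).toMonoidHom
  have he : ∀ a, e a = g⁻¹ * a * g := fun a => by simp [e]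
  have zz : ∀ a, e a ∈ zpowers z → a ∈ zpowers (g * z * g⁻¹) := fun a ha => by
    obtain ⟨n, hn⟩ := mem_zpowers_iff.1 ha
    exact mem_zpowers_iff.2 ⟨n, by rw [conj_zpow, hn, he]; group⟩
  have ez : e (g * z * g⁻¹) = z := by rw [he]; group
  have inj : Function.Injective e := (MulAut.conj g⁻¹).injective
  refine ⟨C.comap e, Q.comap e, π.comp (e.subgroupComap C), ⟨fun a => ?_, ?_, ?_, comap_mono h.QC, fun a ha => ?_, ?_,
    fun a ha b hb => zz _ ?_, fun a ha => zz _ (h.cen _ fun b hb => ?_), ?_, fun c => h.ker _,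
    fun c hc a ha => zz _ ?_⟩, fun a => by rw [mem_comap, he]⟩
  · rw [mem_comap, h.memC, ← inj.eq_iff (a := a * _), map_mul e a, map_mul e _ a, ez]
  · rw [← orderOf_injective e inj, ez, h.oz]
  · rw [mem_comap, ez]; exact h.zQ
  · exact inj (by rw [map_pow, h.exp _ ha, map_one])
  · rw [← h.card, show Q.comap e = Q.map (MulAut.conj g⁻¹).symm.toMonoidHom from comap_equiv_eq_map_symm' _ _]
    exact card_map_of_injective (MulAut.conj g⁻¹).symm.injective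
  · simpa only [map_mul, map_inv] using h.comm _ ha _ hb
  · obtain ⟨b, rfl⟩ := (MulAut.conj g⁻¹).surjective b
    exact (map_mul e a b).symm.trans ((congrArg e (ha b hb)).trans (map_mul e b a))
  · exact h.sur.comp (e.subgroupComap_surjective_of_surjective C (MulAut.conj g⁻¹).surjective)
  · simp only [map_mul, map_inv]; exact h.inv _ hc _ ha

/-- `N(Z)` normalises `Q` -/
theorem mem_norm [Finite G] {g : G} (hg : g * z * g⁻¹ = z⁻¹) : g ∈ normalizer (Q : Set G) := by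
  have hC : ∀ c ∈ C, g * c * g⁻¹ ∈ C := fun c hc => (h.memC _).2 (by
    have e : z = g * z⁻¹ * g⁻¹ := by rw [← conj_inv, hg, inv_inv]
    have := (Commute.inv_right ((h.memC c).1 hc)).eq
    calc g * c * g⁻¹ * z = g * (c * z⁻¹) * g⁻¹ := by nth_rw 1 [e]; group
      _ = _ := by rw [this]; nth_rw 2 [e]; group)
  have hC' : ∀ c ∈ C, g⁻¹ * c * g ∈ C := fun c hc => by
    simpa using (mem_normalizer_iff.1 (inv_mem (mem_normalizer_fintype (S := (C : Set G)) hC)) c).1 hc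
  refine mem_normalizer_fintype fun a ha => (h.ker ⟨_, hC a (h.QC ha)⟩).1 (by_contra fun h1 => ?_)
  have cube : ∀ b (hb : b ∈ Q), π ⟨_, hC b (h.QC hb)⟩ * π ⟨_, hC b (h.QC hb)⟩ * π ⟨_, hC b (h.QC hb)⟩ = 1 :=
    fun b hb => by
      rw [← pow_three', ← map_pow, ← map_one π]
      exact congrArg π (Subtype.ext (by rw [coe_pow, conj_pow, h.exp b hb]; simp))
  obtain ⟨k, l, e1, e2⟩ := s2_core _ h1 (cube a ha)
  obtain ⟨k, rfl⟩ := h.sur k
  have hb := mul_mem ha ((mem_normalizer_iff.1 (h.CN (hC' k k.2)) a).1 ha)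
  have e3 : π ⟨_, hC a (h.QC ha)⟩ * l = π ⟨_, hC _ (h.QC hb)⟩ := by
    rw [← mul_inv_eq_iff_eq_mul.2 e1, ← map_inv, ← map_mul, ← map_mul, ← map_mul]
    exact congrArg π (Subtype.ext (by simp [mul_assoc]))
  exact e2 (e3 ▸ cube _ hb)

end Hy

end Cfsg.Agent.L43
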