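import Cfsg.Agent.L43.Vd

/-! The action of `N(Q)` on `Q / Z`; the pair `Q, Q'`. -/

set_option autoImplicit false

namespace Cfsg.Agent.L43

open Subgroup Module

universe u

variable {G : Type u} [Group G] {z z' : G} {C Q C' Q' : Subgroup G} {π : C →* S2} {π' : C' →* S2}
  {V : Type u} [AddCommGroup V] [Module F V] {p : G → V} {B : LinearMap.BilinForm F V} {R : G → End F V}

theorem mem_of_pow_val {H : Subgroup G} {z : G} (z3 : z ^ 3 = 1) {k : F} (hk : k ≠ 0) (h : z ^ k.val ∈ H) : z ∈ H := by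
  rcases (by decide : ∀ k : F, k ≠ 0 → k.val = 1 ∨ k.val = 2) k hk with e | e <;> rw [e] at h
  · rwa [pow_one] at h
  · rw [show z = (z ^ 2)⁻¹ by rw [eq_inv_iff_mul_eq_one, ← pow_succ', z3]]
    exact inv_mem h

namespace Vd

variable (d : Vd z Q p B R)
include d

theorem one : p 1 = 0 := (d.zero 1 (one_mem _)).2 (one_mem _)

theorem inv {a : G} (ha : a ∈ Q) : p a⁻¹ = -p a :=
  eq_neg_of_add_eq_zero_left (by rw [← d.mul _ (inv_mem ha) _ ha, inv_mul_cancel, d.one])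

theorem pow {a : G} (ha : a ∈ Q) (n : ℕ) : p (a ^ n) = (n : F) • p a := by
  induction n with
  | zero => simp [d.one]
  | succ n ih => rw [pow_succ, d.mul _ (pow_mem ha n) _ ha, ih, Nat.cast_succ, add_smul, one_smul]

theorem pow_val {a : G} (ha : a ∈ Q) (k : F) : p (a ^ k.val) = k • p a := by rw [d.pow ha, ZMod.natCast_zmod_val]

theorem ext {X Y : End F V} (h : ∀ a ∈ Q, X (p a) = Y (p a)) : X = Y := LinearMap.ext fun v => by
  obtain ⟨a, ha, rfl⟩ := d.sur v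
  exact h a ha

theorem R_mul {g g' : G} (hg : g ∈ normalizer (Q : Set G)) (hg' : g' ∈ normalizer (Q : Set G)) :
    R (g * g') = R g * R g' := d.ext fun a ha => by
  rw [End.mul_apply, d.act _ hg' _ ha, d.act _ hg _ ((mem_normalizer_iff.1 hg' a).1 ha), d.act _ (mul_mem hg hg') _ ha]
  congr 1; group

theorem sub {g a : G} (hg : g ∈ normalizer (Q : Set G)) (ha : a ∈ Q) :
    (R g - 1) (p a) = p (g * a * g⁻¹ * a⁻¹) := by
  rw [d.mul _ ((mem_normalizer_iff.1 hg a).1 ha) _ (inv_mem ha), d.inv ha, ← d.act _ hg _ ha, LinearMap.sub_apply,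
    End.one_apply, sub_eq_add_neg]

theorem fin : FiniteDimensional F V :=
  have := Nat.finite_of_card_ne_zero (d.card ▸ by decide : Nat.card V ≠ 0)
  Module.Finite.of_finite

theorem rank : finrank F V = 4 := by
  have : Fact (Nat.Prime 3) := ⟨Nat.prime_three⟩
  have := d.fin
  have e := Module.natCard_eq_pow_finrank (K := F) (V := V)
  rw [d.card, Nat.card_zmod] at e
  exact (Nat.pow_right_injective (by norm_num : 2 ≤ 3) (show 3 ^ 4 = _ from e)).symm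

variable (h : Hy z C Q π)
include h

theorem R_Q {q : G} (hq : q ∈ Q) : R q = 1 := d.ext fun a ha => by
  have := d.sub (le_normalizer hq) ha
  rw [(d.zero _ (h.zle (h.comm q hq a ha))).2 (h.comm q hq a ha), LinearMap.sub_apply, sub_eq_zero] at this
  exact this

theorem comm_iff {a b : G} (ha : a ∈ Q) (hb : b ∈ Q) : a * b = b * a ↔ B (p a) (p b) = 0 := by
  rw [← pow_val_eq_one h.oz, ← d.comm a ha b hb, mul_inv_eq_one, mul_inv_eq_iff_eq_mul]

/-- the action of `C` -/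
def ρ : C →* End F V where
  toFun c := R c
  map_one' := d.R_Q h (one_mem _)
  map_mul' a b := d.R_mul (h.CN a.2) (h.CN b.2)

theorem ρ_eq {a b : C} (e : π a = π b) : d.ρ h a = d.ρ h b := by
  have : d.ρ h (a * b⁻¹) = 1 := d.R_Q h ((h.ker _).1 (by rw [map_mul, map_inv, e, mul_inv_cancel]))
  rw [← one_mul (d.ρ h b), ← this, ← map_mul, inv_mul_cancel_right]

theorem ρ_neg {c : C} (e : π c = -1) : d.ρ h c = -1 := d.ext fun a ha => by
  have h1 := h.inv c e a ha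
  have h2 := (d.zero _ (h.zle h1)).2 h1
  rw [d.mul _ ((mem_normalizer_iff.1 (h.CN c.2) a).1 ha) _ ha, ← d.act _ (h.CN c.2) _ ha] at h2
  exact eq_neg_of_add_eq_zero_left h2

theorem B_R {g : G} (hg : g ∈ normalizer (Q : Set G)) {ε : F}
    (e : ∀ k : F, g * z ^ k.val * g⁻¹ = z ^ (ε * k).val) (u v : V) : B (R g u) (R g v) = ε * B u v := by
  obtain ⟨a, ha, rfl⟩ := d.sur u
  obtain ⟨b, hb, rfl⟩ := d.sur v
  refine pow_val_inj h.oz ?_
  rw [d.act _ hg _ ha, d.act _ hg _ hb, ← e, ← d.comm a ha b hb,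
    ← d.comm _ ((mem_normalizer_iff.1 hg a).1 ha) _ ((mem_normalizer_iff.1 hg b).1 hb)]
  group

theorem B_ρ (c : C) (u v : V) : B (d.ρ h c u) (d.ρ h c v) = B u v :=
  (d.B_R h (h.CN c.2) (ε := 1) (fun k => by
    rw [one_mul, ← conj_pow, (h.memC _).1 c.2, mul_inv_cancel_right]) u v).trans (one_mul _)

theorem sq {c : C} (hc : π c * π c * π c = 1) : (d.ρ h c - 1) * (d.ρ h c - 1) = 0 :=
  have := d.fin
  quad d.rank d.alt d.nd (fun u v => by simpa using d.B_ρ h c u v) (cube _ (by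
    rw [← map_mul, ← map_mul, ← map_one (d.ρ h)]
    exact d.ρ_eq h (by rw [map_mul, map_mul, hc, map_one])))

theorem skew {c : C} (hc : π c * π c * π c = 1) (u v : V) :
    B ((d.ρ h c - 1) u) v = -B u ((d.ρ h c - 1) v) :=
  L43.skew (fun u v => by simpa using d.B_ρ h c u v) (d.sq h hc) u v

end Vd

namespace Hy

variable (h : Hy z C Q π)
include h

/-- `C_Q(w)` is not abelian -/
theorem nab {w : G} (hw : w ∈ Q) (hn : w ∉ zpowers z) : ∃ a ∈ Q, ∃ b ∈ Q, a * w = w * a ∧ b * w = w * b ∧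
    ∃ k : F, k ≠ 0 ∧ a * b * a⁻¹ * b⁻¹ = z ^ k.val := by
  obtain ⟨V, _, _, p, B, R, d⟩ := h.exists_vd
  have := Nat.finite_of_card_ne_zero (d.card ▸ by decide : Nat.card V ≠ 0)
  obtain ⟨u, v, h1, h2, h3⟩ := exists_perp (d.card ▸ by decide) d.alt d.nd fun e => hn ((d.zero w hw).1 e)
  obtain ⟨a, ha, rfl⟩ := d.sur u
  obtain ⟨b, hb, rfl⟩ := d.sur v
  exact ⟨a, ha, b, hb, (d.comm_iff h ha hw).2 h1, (d.comm_iff h hb hw).2 h2, _, h3, d.comm a ha b hb⟩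

omit h in
theorem cube {a : C} (h3 : a.1 ^ 3 = 1) : π a * π a * π a = 1 := by
  rw [← pow_three', ← map_pow, show a ^ 3 = 1 from Subtype.ext h3, map_one]

/-- subgroups of exponent three of `C` -/
theorem cyc {H : Subgroup G} (hH : H ≤ C) (h3 : ∀ a ∈ H, a ^ 3 = 1) {x a : G} (hx : x ∈ H) (xQ : x ∉ Q)
    (ha : a ∈ H) : ∃ i < 3, a * (x ^ i)⁻¹ ∈ Q := by
  have key : ∀ i, π ⟨a, hH ha⟩ = π ⟨x, hH hx⟩ ^ i → a * (x ^ i)⁻¹ ∈ Q := fun i e =>
    (h.ker (⟨a, hH ha⟩ * (⟨x, hH hx⟩ ^ i)⁻¹)).1 (by rw [map_mul, map_inv, map_pow, e, mul_inv_cancel])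
  rcases s2_cyc (π ⟨x, hH hx⟩) (π ⟨a, hH ha⟩) (fun e => xQ ((h.ker _).1 e)) (cube (h3 x hx)) (cube (h3 a ha))
    (by rw [← map_mul]; exact cube (h3 _ (mul_mem hx ha)))
    (by rw [← map_mul, ← map_mul]; exact cube (h3 _ (mul_mem hx (mul_mem ha ha)))) with e | e | e
  · exact ⟨0, by decide, key 0 (by rw [e, pow_zero])⟩
  · exact ⟨1, by decide, key 1 (by rw [e, pow_one])⟩
  · exact ⟨2, by decide, key 2 (by rw [e, pow_two])⟩

variable (h' : Hy z' C' Q' π')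
include h'

theorem sym (hw : z' ∈ Q) (hn : z' ∉ zpowers z) : z ∈ Q' := by
  obtain ⟨a, ha, b, hb, h1, h2, k, hk, e⟩ := h.nab hw hn
  have aC := (h'.memC a).2 h1
  refine mem_of_pow_val h.z3 hk (e ▸ ?_)
  by_cases aQ : a ∈ Q'
  · have := (mem_normalizer_iff.1 (h'.CN ((h'.memC b).2 h2)) _).1 (inv_mem aQ)
    simpa only [mul_assoc] using mul_mem aQ this
  · obtain ⟨i, -, hi⟩ := h'.cyc (H := Q ⊓ C') inf_le_right (fun a ha => h.exp a ha.1) ⟨ha, aC⟩ aQ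
      ⟨hb, (h'.memC b).2 h2⟩
    have := mul_mem ((mem_normalizer_iff.1 (h'.CN aC) _).1 hi) (inv_mem hi)
    convert this using 1
    group

theorem sym' (hn : z' ∉ zpowers z) : z ∉ zpowers z' := fun k => by
  obtain ⟨i, e⟩ := (mem_zp3 h'.oz).1 k
  refine hn (mem_of_pow_val h'.z3 (k := i) (fun i0 => ?_) (e ▸ mem_zpowers z))
  have := h.oz
  rw [e, i0, ZMod.val_zero, pow_zero, orderOf_one] at this
  omega

theorem inf_comm (hn : z' ∉ zpowers z) {a b : G} (ha : a ∈ Q ⊓ Q') (hb : b ∈ Q ⊓ Q') : a * b = b * a := by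
  obtain ⟨i, e⟩ := (mem_zp3 h'.oz).1 (h'.comm a ha.2 b hb.2)
  by_cases i0 : i = 0
  · rwa [i0, ZMod.val_zero, pow_zero, mul_inv_eq_one, mul_inv_eq_iff_eq_mul] at e
  · exact absurd (mem_of_pow_val h'.z3 i0 (e ▸ h.comm a ha.1 b hb.1)) hn

omit h in
/-- an element inverting `z`, `Q' / Z'` and centralising `z'` -/
theorem exists_t (hw : z ∈ Q') (hn : z ∉ zpowers z') : ∃ t, t * z * t⁻¹ = z⁻¹ ∧ t * z' * t⁻¹ = z' ∧
    ∀ a ∈ Q', t * a * t⁻¹ * a ∈ zpowers z' := by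
  obtain ⟨t, ht⟩ := h'.sur (-1)
  obtain ⟨V, _, _, p, B, R, d⟩ := h'.exists_vd
  obtain ⟨k, hk⟩ := (mem_zp3 h'.oz).1 (h'.inv t ht z hw)
  obtain ⟨v, hv⟩ : ∃ v, B v (p z) = 1 := by
    obtain ⟨u, hu⟩ : ∃ u, B (p z) u ≠ 0 :=
      by_contra fun e => hn ((d.zero z hw).1 (d.nd _ fun u => by_contra fun k => e ⟨u, k⟩))
    exact ⟨-(B (p z) u)⁻¹ • u, by
      rw [map_smul, LinearMap.smul_apply, ← d.alt.neg_eq (p z) u, smul_eq_mul, neg_mul_neg, inv_mul_cancel₀ hu]⟩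
  obtain ⟨q, hq, e⟩ := d.sur (k • v)
  have e1 := d.comm q hq z hw
  rw [e, map_smul, LinearMap.smul_apply, hv, smul_eq_mul, mul_one, ← hk] at e1
  have ht' : π' (⟨q, h'.QC hq⟩ * t) = -1 := by rw [map_mul, (h'.ker ⟨q, _⟩).2 hq, one_mul, ht]
  refine ⟨q * t, ?_, mul_inv_eq_iff_eq_mul.2 ((h'.memC _).1 (mul_mem (h'.QC hq) t.2)), h'.inv _ ht'⟩
  have c1 : Commute q (t * z * t.1⁻¹ * z) := hk ▸ (Commute.pow_right (h'.zc hq) _)
  have c2 : Commute z (t * z * t.1⁻¹ * z) := hk ▸ (Commute.pow_right (h'.zc hw) _)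
  calc q * t * z * (q * t.1)⁻¹ = q * (t * z * t.1⁻¹ * z) * q⁻¹ * z⁻¹ * (q * z * q⁻¹ * z⁻¹)⁻¹ := by group
    _ = (t * z * t.1⁻¹ * z) * z⁻¹ * (t * z * t.1⁻¹ * z)⁻¹ := by rw [e1, c1.eq, mul_inv_cancel_right]
    _ = _ := by rw [← c2.inv_left.eq, mul_inv_cancel_right]

end Hy

end Cfsg.Agent.L43
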